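import Cfsg.Agent.J1.Theory
import Cfsg.Agent.H60.RecogA5

/-! The centraliser of an involution of `J1`. -/

set_option autoImplicit false

namespace Cfsg.Agent.J1

open Subgroup Cfsg.Agent.H60

/-- Iterated action of `x` on the frames. -/
def itX : ℕ → ℕ → ℕ
  | 0, i => i
  | n + 1, i => tabX (itX n i) % 2048

theorem tab_xpow (n : ℕ) (i : Fin 1045) : ∃ (q : HP) (j : Fin 1045), (j : ℕ) = itX n i ∧
    tJ i * xJ ^ n = hJ q * tJ j := by
  induction n with
  | zero => exact ⟨(0, 0, 0), i, rfl, by rw [hJ_zero, pow_zero, mul_one, one_mul]⟩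
  | succ n ih =>
    obtain ⟨q, j, hj, h⟩ := ih
    obtain ⟨k, hk, hk2⟩ := tab_x j
    refine ⟨compP q (codeP (tabX j)), k, ?_, ?_⟩
    · rw [hk, hj]; rfl
    · rw [pow_succ, ← mul_assoc, h, mul_assoc, hk2, ← mul_assoc, hJ_mul]

theorem fr_itX : ∀ b : Fin 7, b ≠ 0 → ∀ k k' : Fin 5, itX b (fr k) = fr k' → k = 0 := by
  decide +kernel

theorem mem_HJ_of_conj' {g s : J} (hs : s ∈ SJ) (hs1 : s ≠ 1) (hsd : s ≠ dJ)
    (h1 : g * dJ * g⁻¹ ∈ HJ) (h2 : g * s * g⁻¹ ∈ HJ) : g ∈ HJ := by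
  obtain ⟨b, rfl⟩ := exists_conj_dJ hs hs1
  have hb0 : b ≠ 0 := by
    rintro rfl
    apply hsd
    simp
  obtain ⟨p, i, rfl⟩ := nf_exists g
  obtain ⟨j, hj, hrel⟩ := tab_d i
  obtain ⟨r, k, hk, hkrel⟩ := tab_xpow b i
  obtain ⟨l, hl, hlrel⟩ := tab_d k
  -- `D_0` fixes `i`
  have hij : j = i := by
    obtain ⟨q, hq⟩ := mem_HJ.mp h1
    have e1 : hJ p * tJ i * dJ = hJ (compP p (codeP (tabD i))) * tJ j := by
      rw [mul_assoc, hrel, ← mul_assoc, hJ_mul]
    have e2 : hJ p * tJ i * dJ = hJ (compP q p) * tJ i := by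
      rw [← hJ_mul, ← hq]; group
    exact (nf_unique (e1.symm.trans e2)).2
  have hlk : l = k := by
    obtain ⟨q, hq⟩ := mem_HJ.mp h2
    have e3 : hJ p * tJ i * xJ ^ (b : ℕ) = hJ (compP p r) * tJ k := by
      rw [mul_assoc, hkrel, ← mul_assoc, hJ_mul]
    have e1 : hJ p * tJ i * xJ ^ (b : ℕ) * dJ =
        hJ (compP (compP p r) (codeP (tabD k))) * tJ l := by
      rw [e3, mul_assoc, hlrel, ← mul_assoc, hJ_mul]
    have e2 : hJ p * tJ i * xJ ^ (b : ℕ) * dJ =
        hJ (compP q (compP p r)) * tJ k := by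
      rw [← hJ_mul, mul_assoc (hJ q), ← e3, ← hq]; group
    exact (nf_unique (e1.symm.trans e2)).2
  subst hij hlk
  obtain ⟨a, rfl⟩ := exists_fr hj.symm
  obtain ⟨b', hb'⟩ := exists_fr hl.symm
  have : a = 0 := by
    apply fr_itX b hb0 a b'
    rw [← hk, hb']
  subst this
  have h0 : fr 0 = 0 := rfl
  rw [h0, tJ_zero, mul_one]
  exact hJ_mem p

/-- The centraliser of the involution. -/
abbrev CJ : Subgroup J := centralizer ({dJ} : Set J)

theorem mem_CJ {g : J} : g ∈ CJ ↔ g * dJ = dJ * g := mem_centralizer_singleton_iff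

theorem dJ_mem_CJ : dJ ∈ CJ := mem_centralizer_self _

noncomputable def tC : CJ := ⟨dJ, dJ_mem_CJ⟩

theorem orderOf_tC : orderOf tC = 2 := (Subgroup.orderOf_mk _ _).trans orderOf_dJ

theorem tC_center : tC ∈ center CJ := by
  rw [mem_center_iff]
  rintro ⟨g, hg⟩
  apply Subtype.ext
  exact mem_CJ.mp hg

theorem SJ_le_CJ : SJ ≤ CJ := by
  intro s hs
  rw [mem_CJ]
  exact SJ_comm hs dJ_mem_SJ

/-- The intersection with the frame stabiliser. -/
abbrev BJ : Subgroup CJ := HJ.subgroupOf CJ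

theorem card_CDP0 : Fintype.card {p : HP // CDP (p, 0)} = 24 := by
  decide +kernel

theorem card_BJ : Nat.card BJ = 24 := by
  have hk : ∀ p : HP, hJ p ∈ CJ ↔ CDP (p, 0) := by
    intro p
    rw [mem_CJ, ← comm_dJ_iff p 0]
    have h0 : fr 0 = 0 := rfl
    rw [h0, tJ_zero, mul_one]
  have hb : Function.Bijective (fun q : {p : HP // CDP (p, 0)} =>
      (⟨⟨hJ q.1, (hk q.1).mpr q.2⟩, hJ_mem q.1⟩ : BJ)) := by
    constructor
    · rintro ⟨p, h⟩ ⟨p', h'⟩ heq
      have h1 : hJ p = hJ p' := congrArg (fun z : BJ => ((z : CJ) : J)) heq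
      have h2 := hJ_inj h1
      subst h2
      rfl
    · rintro ⟨⟨g, hg⟩, hg2⟩
      obtain ⟨p, rfl⟩ := mem_HJ.mp hg2
      exact ⟨⟨p, (hk p).mp hg⟩, rfl⟩
  rw [← Nat.card_eq_of_bijective _ hb, Nat.card_eq_fintype_card, card_CDP0]

theorem index_BJ : BJ.index = 5 := by
  have h := Subgroup.card_mul_index BJ
  rw [card_BJ, card_centralizer_dJ] at h
  omega

theorem exists_CJ_not_HJ : ∃ g : J, g ∈ CJ ∧ g ∉ HJ := by
  by_contra h
  push Not at h
  have h1 : BJ = ⊤ := by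
    rw [eq_top_iff]
    rintro ⟨g, hg⟩ _
    exact h g hg
  have h2 := index_BJ
  rw [h1, index_top] at h2
  exact absurd h2 (by norm_num)

theorem sq_dec : ∀ p : HP, (∀ e : Fin 8, compP (compP p p) (e, 0, 0) =
    compP (e, 0, 0) (compP p p)) → p.2 = (0, 0) := by
  decide +kernel

theorem cent_dec : ∀ p : HP, (∀ e : Fin 8, compP p (e, 0, 0) = compP (e, 0, 0) p) →
    p.2 = (0, 0) := by
  decide +kernel

/-- If `k ∈ H` and `k^2` centralises `S` then `k ∈ S`. -/
theorem mem_SJ_of_sq {k : J} (hk : k ∈ HJ) (h : ∀ s ∈ SJ, k * k * s = s * (k * k)) : k ∈ SJ := by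
  obtain ⟨p, rfl⟩ := mem_HJ.mp hk
  have h1 := sq_dec p (fun e => by
    have := h (hJ (e, 0, 0)) ⟨e, rfl⟩
    rw [hJ_mul, hJ_mul, hJ_mul] at this
    exact hJ_inj this)
  refine ⟨p.1, ?_⟩
  congr 1
  exact Prod.ext rfl h1

/-- `C_G(S) = S`. -/
theorem centralizer_SJ {k : J} (h : ∀ s ∈ SJ, k * s = s * k) : k ∈ SJ := by
  have hk : k ∈ HJ := by
    rw [← normalizer_SJ, Subgroup.mem_normalizer_iff]
    intro s
    have hc : ∀ s ∈ SJ, k * s * k⁻¹ = s := by
      intro s hs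
      rw [h s hs, mul_inv_cancel_right]
    constructor
    · intro hs
      rw [hc s hs]
      exact hs
    · intro hs
      have h1 := hc _ hs
      have h2 : k * s * k⁻¹ = s := by
        have := congrArg (fun z => k⁻¹ * z * k) h1
        simpa [mul_assoc] using this
      rwa [h2] at hs
  apply mem_SJ_of_sq hk
  intro s hs
  rw [mul_assoc, h s hs, ← mul_assoc, h s hs, mul_assoc]

theorem core_BJ : BJ.normalCore = zpowers tC := by
  apply le_antisymm
  · -- the core contains only `1` and `t`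
    obtain ⟨g, hgC, hgH⟩ := exists_CJ_not_HJ
    have key : ∀ s : J, ∀ hs : s ∈ CJ, (⟨s, hs⟩ : CJ) ∈ BJ.normalCore → s ∈ SJ →
        s = 1 ∨ s = dJ := by
      intro s hs hsc hsS
      by_contra hne
      push Not at hne
      apply hgH
      apply mem_HJ_of_conj' hsS hne.1 hne.2
      · rw [mem_CJ.mp hgC, mul_inv_cancel_right]
        exact SJ_le_HJ dJ_mem_SJ
      · have h1 := (inferInstance : BJ.normalCore.Normal).conj_mem _ hsc ⟨g, hgC⟩
        exact BJ.normalCore_le h1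
    rintro ⟨k, hk⟩ hkc
    have hkH : k ∈ HJ := BJ.normalCore_le hkc
    have hkS : k ∈ SJ := by
      apply mem_SJ_of_sq hkH
      -- `[k, s] ∈ {1, t}`
      have hcomm : ∀ s ∈ SJ, k * s = s * k ∨ k * s = dJ * s * k := by
        intro s hs
        have hsC := SJ_le_CJ hs
        have h1 : (⟨k, hk⟩ : CJ) * (⟨s, hsC⟩ * (⟨k, hk⟩ : CJ)⁻¹ * (⟨s, hsC⟩ : CJ)⁻¹) ∈
            BJ.normalCore :=
          BJ.normalCore.mul_mem hkc
            ((inferInstance : BJ.normalCore.Normal).conj_mem _ (BJ.normalCore.inv_mem hkc) _)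
        have h2 : k * (s * k⁻¹ * s⁻¹) ∈ SJ := by
          have : k * (s * k⁻¹ * s⁻¹) = (k * s * k⁻¹) * s⁻¹ := by group
          rw [this]
          exact SJ.mul_mem (HJ_conj_SJ hkH hs) (SJ.inv_mem hs)
        rcases key _ (CJ.mul_mem hk (CJ.mul_mem (CJ.mul_mem hsC (CJ.inv_mem hk))
          (CJ.inv_mem hsC))) h1 h2 with h3 | h3
        · left
          have : k * s = (k * (s * k⁻¹ * s⁻¹)) * s * k := by group
          rw [this, h3, one_mul]
        · right
          have : k * s = (k * (s * k⁻¹ * s⁻¹)) * s * k := by group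
          rw [this, h3]
      intro s hs
      have hkd : k * dJ = dJ * k := mem_CJ.mp hk
      rcases hcomm s hs with h | h
      · rw [mul_assoc, h, ← mul_assoc, h, mul_assoc]
      · rw [mul_assoc, h, ← mul_assoc, ← mul_assoc, hkd, mul_assoc dJ k s, h, ← mul_assoc,
          ← mul_assoc, dJ_sq, one_mul, mul_assoc]
    rcases key k hk hkc hkS with h | h
    · subst h
      exact one_mem _
    · subst h
      exact mem_zpowers _
  · rw [zpowers_le]
    intro b
    have : b * tC * b⁻¹ = tC := by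
      rw [mem_center_iff.mp tC_center b, mul_inv_cancel_right]
    rw [this]
    exact SJ_le_HJ dJ_mem_SJ

theorem fact120 : (120 : ℕ).factorization 2 = 3 := by
  have h1 : (120 : ℕ) = 2 ^ 3 * 15 := by norm_num
  rw [h1, Nat.factorization_mul (by norm_num) (by norm_num), Nat.Prime.factorization_pow
    Nat.prime_two]
  have h2 : (15 : ℕ).factorization 2 = 0 := Nat.factorization_eq_zero_of_not_dvd (by norm_num)
  simp [h2]

noncomputable def sylC : Sylow 2 CJ :=
  haveI : Fact (Nat.Prime 2) := ⟨Nat.prime_two⟩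
  Sylow.ofCard (SJ.subgroupOf CJ) (by
    rw [Nat.card_congr (Subgroup.subgroupOfEquivOfLe SJ_le_CJ).toEquiv, card_SJ,
      card_centralizer_dJ, fact120]
    norm_num)

theorem centralizer_iso :
    Nonempty (CJ ≃* Multiplicative (ZMod 2) × alternatingGroup (Fin 5)) := by
  apply recog_C2A5 card_centralizer_dJ orderOf_tC tC_center index_BJ core_BJ sylC
  · exact dJ_mem_SJ
  · rintro ⟨a, ha⟩ ha2 ⟨b, hb⟩ hb2
    apply Subtype.ext
    exact SJ_comm ha2 hb2

end Cfsg.Agent.J1
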