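import Cfsg.Agent.J1.Words

/-! `|J1| = 175560`, elements of order 5, 11, 15, 19, unique normal form. -/

set_option autoImplicit false

namespace Cfsg.Agent.J1

def IsMat (g : GL7) (A : ℕ) : Prop := (g : M7) = dm A

theorem IsMat.step {g h : GL7} {A B C : ℕ} (hg : IsMat g A) (hh : IsMat h B)
    (hc : chkMul A B C = true) : IsMat (g * h) C := by
  unfold IsMat at *
  rw [Units.val_mul, hg, hh, chkMul_spec hc]

theorem IsMat.eq_one {g : GL7} (hg : IsMat g PI) : g = 1 := by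
  unfold IsMat at hg
  rw [dmPI] at hg
  exact Units.ext hg

theorem IsMat.ne_one {g : GL7} {A : ℕ} (hg : IsMat g A) (hA : dm A ≠ 1) : g ≠ 1 := by
  rintro rfl
  unfold IsMat at hg
  exact hA hg.symm

theorem IsMat.pstep {g : GL7} {A B C : ℕ} {m n k : ℕ} (hg : IsMat (g ^ m) A)
    (hh : IsMat (g ^ n) B) (hc : chkMul A B C = true) (hk : m + n = k) : IsMat (g ^ k) C := by
  rw [← hk, pow_add]
  exact hg.step hh hc

theorem IsMat.one {g : GL7} {A : ℕ} (hg : IsMat g A) : IsMat (g ^ 1) A := by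
  rw [pow_one]
  exact hg

theorem isX : IsMat gx PX := dmPX.symm
theorem isY : IsMat gy PY := dmPY.symm

theorem isX3 : IsMat (gx * gx * gx) PX3 := (isX.step isX chk1).step isX chk2
theorem isX6 : IsMat (gx * gx * gx * (gx * gx * gx)) PX6 := isX3.step isX3 chk3
theorem isY2 : IsMat (gy * gy) PY2 := isY.step isY chk4

theorem gy_pow : gy ^ 5 = 1 := by
  have := (((isY2.step isY chk5).step isY chk6).step isY chk7).eq_one
  rw [← this]
  simp only [pow_succ, pow_zero, one_mul]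

theorem gy_ne : gy ≠ 1 := isY.ne_one (by decide +kernel)

def z11 : GL7 := gx * (gy * gy)
def z19 : GL7 := gx * gx * gx * gy
def z15 : GL7 := gx * (gy * gy) * (gx * gx * gx * (gx * gx * gx)) * (gy * gy)

theorem is11_1 : IsMat z11 Z11_1 := isX.step isY2 (by decide +kernel)
theorem is11_2 : IsMat (z11 ^ 2) Z11_2 := is11_1.one.pstep is11_1.one (by decide +kernel) rfl
theorem is11_4 : IsMat (z11 ^ 4) Z11_4 := is11_2.pstep is11_2 (by decide +kernel) rfl
theorem is11_8 : IsMat (z11 ^ 8) Z11_8 := is11_4.pstep is11_4 (by decide +kernel) rfl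
theorem is11_10 : IsMat (z11 ^ 10) Z11_10 := is11_8.pstep is11_2 (by decide +kernel) rfl
theorem is11_11 : IsMat (z11 ^ 11) PI := is11_10.pstep is11_1.one (by decide +kernel) rfl

theorem z11_pow : z11 ^ 11 = 1 := is11_11.eq_one

theorem z11_ne : z11 ≠ 1 := is11_1.ne_one (by decide +kernel)

theorem is19_1 : IsMat z19 Z19_1 := isX3.step isY (by decide +kernel)
theorem is19_2 : IsMat (z19 ^ 2) Z19_2 := is19_1.one.pstep is19_1.one (by decide +kernel) rfl
theorem is19_4 : IsMat (z19 ^ 4) Z19_4 := is19_2.pstep is19_2 (by decide +kernel) rfl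
theorem is19_8 : IsMat (z19 ^ 8) Z19_8 := is19_4.pstep is19_4 (by decide +kernel) rfl
theorem is19_16 : IsMat (z19 ^ 16) Z19_16 := is19_8.pstep is19_8 (by decide +kernel) rfl
theorem is19_18 : IsMat (z19 ^ 18) Z19_18 := is19_16.pstep is19_2 (by decide +kernel) rfl
theorem is19_19 : IsMat (z19 ^ 19) PI := is19_18.pstep is19_1.one (by decide +kernel) rfl

theorem z19_pow : z19 ^ 19 = 1 := is19_19.eq_one

theorem z19_ne : z19 ≠ 1 := is19_1.ne_one (by decide +kernel)

theorem is15_1 : IsMat z15 Z15_1 :=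
  ((isX.step isY2 (C := Z15a) (by decide +kernel)).step isX6 (C := Z15b)
    (by decide +kernel)).step isY2 (by decide +kernel)
theorem is15_2 : IsMat (z15 ^ 2) Z15_2 := is15_1.one.pstep is15_1.one (by decide +kernel) rfl
theorem is15_3 : IsMat (z15 ^ 3) Z15_3 := is15_2.pstep is15_1.one (by decide +kernel) rfl
theorem is15_4 : IsMat (z15 ^ 4) Z15_4 := is15_2.pstep is15_2 (by decide +kernel) rfl
theorem is15_5 : IsMat (z15 ^ 5) Z15_5 := is15_4.pstep is15_1.one (by decide +kernel) rfl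
theorem is15_10 : IsMat (z15 ^ 10) Z15_10 := is15_5.pstep is15_5 (by decide +kernel) rfl
theorem is15_15 : IsMat (z15 ^ 15) PI := is15_10.pstep is15_5 (by decide +kernel) rfl

theorem z15_pow : z15 ^ 15 = 1 := is15_15.eq_one

theorem z15_pow3 : z15 ^ 3 ≠ 1 := is15_3.ne_one (by decide +kernel)

theorem z15_pow5 : z15 ^ 5 ≠ 1 := is15_5.ne_one (by decide +kernel)

theorem w11_rel : (hm 4 0 2 * dm (TTf 144)) * dm Z11_1 = dm Z11_2 * (hm 4 0 2 * dm (TTf 144)) := by
  decide +kernel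

theorem w19_rel : (hm 0 4 1 * dm (TTf 415)) * dm Z19_1 = dm Z19_8 * (hm 0 4 1 * dm (TTf 415)) := by
  decide +kernel

theorem order5 : orderOf gy = 5 :=
  haveI : Fact (Nat.Prime 5) := ⟨by norm_num⟩
  orderOf_eq_prime gy_pow gy_ne
theorem order11 : orderOf z11 = 11 :=
  haveI : Fact (Nat.Prime 11) := ⟨by norm_num⟩
  orderOf_eq_prime z11_pow z11_ne
theorem order19 : orderOf z19 = 19 :=
  haveI : Fact (Nat.Prime 19) := ⟨by norm_num⟩
  orderOf_eq_prime z19_pow z19_ne
theorem order15 : orderOf z15 = 15 := by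
  apply orderOf_eq_of_pow_and_pow_div_prime (by norm_num) z15_pow
  intro p hp hp15
  have : p = 3 ∨ p = 5 := by
    have h1 : (15 : ℕ) = 3 * 5 := by norm_num
    rw [h1] at hp15
    rcases (Nat.Prime.dvd_mul hp).mp hp15 with h | h
    · left; exact (Nat.prime_dvd_prime_iff_eq hp (by norm_num)).mp h
    · right; exact (Nat.prime_dvd_prime_iff_eq hp (by norm_num)).mp h
  rcases this with rfl | rfl
  · exact z15_pow5
  · exact z15_pow3

theorem z11_mem : z11 ∈ J := J.mul_mem gx_mem (J.mul_mem gy_mem gy_mem)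
theorem z19_mem : z19 ∈ J := J.mul_mem (J.mul_mem (J.mul_mem gx_mem gx_mem) gx_mem) gy_mem
theorem z15_mem : z15 ∈ J :=
  J.mul_mem (J.mul_mem (J.mul_mem gx_mem (J.mul_mem gy_mem gy_mem))
    (J.mul_mem (J.mul_mem (J.mul_mem gx_mem gx_mem) gx_mem)
      (J.mul_mem (J.mul_mem gx_mem gx_mem) gx_mem))) (J.mul_mem gy_mem gy_mem)

/-! ### The monomial subgroup -/

theorem sgm_inj : ∀ a a' : Fin 3, ∀ b b' : Fin 7, (∀ r : Fin 7, sgm a b r = sgm a' b' r) →
    a = a' ∧ b = b' := by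
  decide +kernel

theorem neg_inj : ∀ e e' : Fin 8, (∀ r : Fin 7, neg e r = neg e' r) → e = e' := by
  decide +kernel

theorem sg_ne_zero (e : ℕ) (r : Fin 7) : sg e r ≠ 0 := by
  unfold sg
  cases neg e r <;> decide

theorem hm_inj {e e' : Fin 8} {b b' : Fin 7} {a a' : Fin 3} (h : hm e b a = hm e' b' a') :
    e = e' ∧ b = b' ∧ a = a' := by
  have hr : ∀ r : Fin 7, sgmF a b r = sgmF a' b' r ∧ sg e r = sg e' r := by
    intro r
    have h1 : hm e b a r (sgmF a b r) = sg e r := by simp [hm, mono]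
    rw [h] at h1
    have h2 : sgmF a' b' r = sgmF a b r := by
      by_contra hne
      have : hm e' b' a' r (sgmF a b r) = 0 := by simp [hm, mono, hne]
      rw [this] at h1
      exact sg_ne_zero e r h1.symm
    have h3 : hm e' b' a' r (sgmF a b r) = sg e' r := by
      rw [← h2]
      simp [hm, mono]
    exact ⟨h2.symm, h1.symm.trans h3⟩
  obtain ⟨ha, hb⟩ := sgm_inj a a' b b' (fun r => congrArg Fin.val (hr r).1)
  refine ⟨neg_inj e e' ?_, hb, ha⟩
  intro r
  have := (hr r).2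
  unfold sg at this
  have h1 : (1 : F) ≠ -1 := by decide
  cases h2 : neg e r <;> cases h3 : neg e' r <;> rw [h2, h3] at this <;>
    simp only [cond_true, cond_false] at this
  · exact absurd this h1
  · exact absurd this.symm h1

/-- The monomial subgroup of `J`. -/
def HJ : Subgroup J where
  carrier := {g | ∃ (e : Fin 8) (b : Fin 7) (a : Fin 3), ((g : GL7) : M7) = hm e b a}
  mul_mem' := by
    rintro g g' ⟨e, b, a, h⟩ ⟨e', b', a', h'⟩
    obtain ⟨e'', b'', a'', hh⟩ := hm_mul e b a e' b' a'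
    exact ⟨e'', b'', a'', by rw [Subgroup.coe_mul, Units.val_mul, h, h', hh]⟩
  one_mem' := ⟨0, 0, 0, hm_zero.symm⟩
  inv_mem' := by
    rintro g ⟨e, b, a, h⟩
    have hpow : ∀ n : ℕ, ∃ (e : Fin 8) (b : Fin 7) (a : Fin 3),
        (((g ^ n : J) : GL7) : M7) = hm e b a := by
      intro n
      induction n with
      | zero => exact ⟨0, 0, 0, hm_zero.symm⟩
      | succ n ih =>
        obtain ⟨e', b', a', h'⟩ := ih
        obtain ⟨e'', b'', a'', hh⟩ := hm_mul e' b' a' e b a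
        exact ⟨e'', b'', a'', by rw [pow_succ, Subgroup.coe_mul, Units.val_mul, h', h, hh]⟩
    have hinv : g⁻¹ = g ^ (orderOf g - 1) := by
      rw [inv_eq_iff_mul_eq_one, ← pow_succ']
      have : orderOf g - 1 + 1 = orderOf g := Nat.sub_add_cancel (orderOf_pos g)
      rw [this, pow_orderOf_eq_one]
    rw [hinv]
    exact hpow _

theorem exists_hJ (p : Fin 8 × Fin 7 × Fin 3) :
    ∃ g : J, ((g : GL7) : M7) = hm p.1 p.2.1 p.2.2 := by
  obtain ⟨g, hg, h⟩ := InJ_hm p.1 p.2.1 p.2.2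
  exact ⟨⟨g, hg⟩, h⟩

/-- The element of `J` with monomial matrix `hm e b a`. -/
noncomputable def hJ (p : Fin 8 × Fin 7 × Fin 3) : J := (exists_hJ p).choose

theorem hJ_coe (p : Fin 8 × Fin 7 × Fin 3) :
    ((hJ p : GL7) : M7) = hm p.1 p.2.1 p.2.2 := (exists_hJ p).choose_spec

theorem hJ_mem (p : Fin 8 × Fin 7 × Fin 3) : hJ p ∈ HJ := ⟨p.1, p.2.1, p.2.2, hJ_coe p⟩

theorem J_ext {g g' : J} (h : ((g : GL7) : M7) = ((g' : GL7) : M7)) : g = g' :=
  Subtype.ext (Units.ext h)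

theorem mem_HJ {g : J} : g ∈ HJ ↔ ∃ p, g = hJ p := by
  constructor
  · rintro ⟨e, b, a, h⟩
    exact ⟨(e, b, a), J_ext (h.trans (hJ_coe (e, b, a)).symm)⟩
  · rintro ⟨p, rfl⟩
    exact hJ_mem p

theorem hJ_inj : Function.Injective hJ := by
  intro p p' h
  have h1 : hm p.1 p.2.1 p.2.2 = hm p'.1 p'.2.1 p'.2.2 := by
    rw [← hJ_coe, ← hJ_coe, h]
  obtain ⟨h2, h3, h4⟩ := hm_inj h1
  exact Prod.ext h2 (Prod.ext h3 h4)

theorem card_HJ : Nat.card HJ = 168 := by
  have hb : Function.Bijective (fun p : Fin 8 × Fin 7 × Fin 3 => (⟨hJ p, hJ_mem p⟩ : HJ)) := by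
    constructor
    · intro p p' h
      exact hJ_inj (congrArg Subtype.val h)
    · rintro ⟨g, hg⟩
      obtain ⟨p, hp⟩ := mem_HJ.mp hg
      exact ⟨p, Subtype.ext hp.symm⟩
  rw [← Nat.card_eq_of_bijective _ hb]
  simp only [Nat.card_eq_fintype_card, Fintype.card_prod, Fintype.card_fin]

/-! ### The order -/

theorem card_J : Nat.card J = 175560 := by
  have h168 : 168 ∣ Nat.card J := by
    rw [← card_HJ]
    exact Subgroup.card_subgroup_dvd_card HJ
  have h5 : 5 ∣ Nat.card J := by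
    have := orderOf_dvd_natCard (⟨gy, gy_mem⟩ : J)
    rwa [Subgroup.orderOf_mk, order5] at this
  have h11 : 11 ∣ Nat.card J := by
    have := orderOf_dvd_natCard (⟨z11, z11_mem⟩ : J)
    rwa [Subgroup.orderOf_mk, order11] at this
  have h19 : 19 ∣ Nat.card J := by
    have := orderOf_dvd_natCard (⟨z19, z19_mem⟩ : J)
    rwa [Subgroup.orderOf_mk, order19] at this
  have hd : 175560 ∣ Nat.card J := by
    have h1 : 168 * 5 ∣ Nat.card J := Nat.Coprime.mul_dvd_of_dvd_of_dvd (by norm_num) h168 h5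
    have h2 : 168 * 5 * 11 ∣ Nat.card J := Nat.Coprime.mul_dvd_of_dvd_of_dvd (by norm_num) h1 h11
    have h3 : 168 * 5 * 11 * 19 ∣ Nat.card J :=
      Nat.Coprime.mul_dvd_of_dvd_of_dvd (by norm_num) h2 h19
    exact h3
  exact le_antisymm card_J_le (Nat.le_of_dvd Nat.card_pos hd)

theorem fIdx_bij_aux : ∃ φ : J → Idx, Function.Bijective φ ∧
    ∀ g : J, fIdx (φ g) = ((g : GL7) : M7) := by
  have hsub : ∀ g : J, ∃ p : Idx, fIdx p = ((g : GL7) : M7) := by
    intro g
    obtain ⟨e, b, a, i, h⟩ := J_le_InS g.2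
    exact ⟨(e, b, a, i), h.symm⟩
  choose φ hφ using hsub
  refine ⟨φ, ?_, hφ⟩
  have hinj : Function.Injective φ := by
    intro g g' h
    apply Subtype.ext
    apply Units.ext
    rw [← hφ g, ← hφ g', h]
  exact hinj.bijective_of_nat_card_le (by rw [card_J, card_Idx])

/-- Normal form: every matrix `hm e b a * T i` is the matrix of an element of `J`, uniquely. -/
theorem fIdx_inj : Function.Injective fIdx := by
  obtain ⟨φ, hb, hφ⟩ := fIdx_bij_aux
  intro p p' h
  obtain ⟨g, rfl⟩ := hb.2 p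
  obtain ⟨g', rfl⟩ := hb.2 p'
  rw [hφ, hφ] at h
  rw [J_ext h]

theorem exists_tJ (i : Fin 1045) : ∃ g : J, ((g : GL7) : M7) = dm (TTf i) := by
  obtain ⟨φ, hb, hφ⟩ := fIdx_bij_aux
  obtain ⟨g, hg⟩ := hb.2 ((0, 0, 0, i) : Idx)
  refine ⟨g, ?_⟩
  rw [← hφ g, hg]
  change hm 0 0 0 * dm (TTf i) = dm (TTf i)
  rw [hm_zero, one_mul]

/-- The coset representatives as elements of `J`. -/
noncomputable def tJ (i : Fin 1045) : J := (exists_tJ i).choose

theorem tJ_coe (i : Fin 1045) : ((tJ i : GL7) : M7) = dm (TTf i) := (exists_tJ i).choose_spec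

theorem nf_exists (g : J) : ∃ p i, g = hJ p * tJ i := by
  obtain ⟨e, b, a, i, h⟩ := J_le_InS g.2
  refine ⟨(e, b, a), i, J_ext ?_⟩
  rw [Subgroup.coe_mul, Units.val_mul, hJ_coe, tJ_coe, h]

theorem nf_unique {p p' : Fin 8 × Fin 7 × Fin 3} {i i' : Fin 1045}
    (h : hJ p * tJ i = hJ p' * tJ i') : p = p' ∧ i = i' := by
  have h1 : fIdx (p.1, p.2.1, p.2.2, i) = fIdx (p'.1, p'.2.1, p'.2.2, i') := by
    have := congrArg (fun g : J => ((g : GL7) : M7)) h
    simp only [Subgroup.coe_mul, Units.val_mul, hJ_coe, tJ_coe] at this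
    exact this
  have h2 := fIdx_inj h1
  simp only [Prod.mk.injEq] at h2
  obtain ⟨h3, h4, h5, h6⟩ := h2
  exact ⟨Prod.ext h3 (Prod.ext h4 h5), h6⟩

end Cfsg.Agent.J1
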