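import Cfsg.Agent.J1.Pack
import Cfsg.Agent.J1.Data
import Cfsg.Prelude.Def_Spor_J1

/-! Kernel checks of the coset tables. -/

set_option autoImplicit false

namespace Cfsg.Agent.J1

/-- A generalised monomial matrix. -/
def mono (s : Fin 7 → F) (f : Fin 7 → Fin 7) : M7 := fun r c => if f r = c then s r else 0

theorem mono_mul (s : Fin 7 → F) (f : Fin 7 → Fin 7) (M : M7) :
    mono s f * M = fun r c => s r * M (f r) c := by
  ext r c
  rw [Matrix.mul_apply]
  simp [mono]

theorem mono_mul_mono (s s' : Fin 7 → F) (f f' : Fin 7 → Fin 7) :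
    mono s f * mono s' f' = mono (fun r => s r * s' (f r)) (fun r => f' (f r)) := by
  rw [mono_mul]
  ext r c
  simp [mono]

/-- Is the sign of pattern `e` at position `r` negative? -/
def neg (e r : ℕ) : Bool := Nat.beq (NEG / 2 ^ (7 * e + r) % 2) 1

/-- The sign pattern. -/
def sg (e : ℕ) : Fin 7 → F := fun r => bif neg e r then -1 else 1

/-- The affine map. -/
def sgm (a b r : ℕ) : ℕ := 2 ^ a * (r + b) % 7

def sgmF (a b : ℕ) : Fin 7 → Fin 7 := fun r => ⟨sgm a b r, Nat.mod_lt _ (by norm_num)⟩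

/-- The monomial matrix with parameters `(e, b, a)`. -/
def hm (e b a : ℕ) : M7 := mono (sg e) (sgmF a b)

/-- The matrix with given packed rows. -/
def rowsM (g : Fin 7 → ℕ) : M7 := fun k => dr (g k)

def chkT (tt : ℕ → ℕ) (g0 g1 g2 g3 g4 g5 g6 : ℕ) (i : ℕ) : Bool :=
  force (TTf i) fun A => force (tt i) fun q => force (TTf (q % 2048)) fun B =>
    okMat A && okMat B && Nat.ble (q % 2048) 1044 && Nat.ble (q / 16384 % 8) 6 &&
    Nat.ble (q / 131072) 2 &&
    allB (fun r =>
      force (red (rmul (rw' A r) g0 g1 g2 g3 g4 g5 g6)) fun u =>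
      force (rw' B (sgm (q / 131072) (q / 16384 % 8) r)) fun c =>
        bif neg (q / 2048 % 8) r then Nat.beq (red (u + c)) 0 else Nat.beq u (red c)) 7

theorem chkT_spec {tt : ℕ → ℕ} {g : Fin 7 → ℕ} (hg : ∀ k, okRow (g k) = true) {i : ℕ}
    (h : chkT tt (g 0) (g 1) (g 2) (g 3) (g 4) (g 5) (g 6) i = true) :
    tt i % 2048 < 1045 ∧ tt i / 16384 % 8 < 7 ∧ tt i / 131072 < 3 ∧
    dm (TTf i) * rowsM g =
      hm (tt i / 2048 % 8) (tt i / 16384 % 8) (tt i / 131072) * dm (TTf (tt i % 2048)) := by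
  unfold chkT at h
  simp only [force_eq, Bool.and_eq_true, Nat.ble_eq] at h
  obtain ⟨⟨⟨⟨⟨hA, hB⟩, hj⟩, hb⟩, ha⟩, hr⟩ := h
  refine ⟨by omega, by omega, by omega, ?_⟩
  rw [hm, mono_mul]
  funext r
  funext c
  have h1 := allB_spec hr r r.2
  have h2 := dr_rmul (a := rw' (TTf i) r) (b := g) (okMat_spec hA r) hg
  have h3 : (dm (TTf i) * rowsM g) r c =
      dr (rmul (rw' (TTf i) r) (g 0) (g 1) (g 2) (g 3) (g 4) (g 5) (g 6)) c := by
    rw [Matrix.mul_apply, h2]
    rfl
  rw [h3, ← dr_red]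
  set u := red (rmul (rw' (TTf i) r) (g 0) (g 1) (g 2) (g 3) (g 4) (g 5) (g 6)) with hu
  set f : Fin 7 := sgmF (tt i / 131072) (tt i / 16384 % 8) r with hf
  have h4 : dm (TTf (tt i % 2048)) f c = dr (rw' (TTf (tt i % 2048)) f) c := rfl
  rw [h4]
  have hfv : sgm (tt i / 131072) (tt i / 16384 % 8) r = (f : ℕ) := rfl
  rw [hfv] at h1
  unfold sg
  cases hn : neg (tt i / 2048 % 8) r with
  | true =>
    rw [hn] at h1
    simp only [cond_true, Nat.beq_eq] at h1 ⊢
    have hcok := okMat_spec hB f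
    have huok : okRow u = true := okRow_red _
    obtain ⟨hue, hu15⟩ := okRow_spec huok
    obtain ⟨hce, hc15⟩ := okRow_spec hcok
    have hadd : dr (u + rw' (TTf (tt i % 2048)) f) = dr u + dr (rw' (TTf (tt i % 2048)) f) := by
      apply dr_add
      · intro j
        have := hu15 j
        omega
      · intro j
        have := hc15 j
        omega
      · have h0 := hu15 0
        have h1 := hu15 1
        have h2 := hu15 2
        have h3 := hu15 3
        have h4 := hu15 4
        have h5 := hu15 5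
        have h6 := hu15 6
        rw [hue]
        unfold pk
        norm_num at *
        omega
    have hz : dr (u + rw' (TTf (tt i % 2048)) f) c = 0 := by
      rw [← dr_red, h1]
      simp [dr, dg]
    rw [hadd, Pi.add_apply] at hz
    rw [eq_neg_of_add_eq_zero_left hz]
    ring
  | false =>
    rw [hn] at h1
    simp only [cond_false, Nat.beq_eq] at h1 ⊢
    rw [h1, dr_red, one_mul]

def gX : Fin 7 → ℕ
  | 0 => 4096 | 1 => 16777216 | 2 => 68719476736 | 3 => 281474976710656
  | 4 => 1152921504606846976 | 5 => 4722366482869645213696 | 6 => 1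

def gY : Fin 7 → ℕ
  | 0 => 37790463330490406412296 | 1 => 14170558494803908104201 | 2 => 9453958590263287914506
  | 3 => 47225972924055403134986 | 4 => 47235194607242364100616 | 5 => 14168252652207044833281
  | 6 => 4725825528927312949251

def gD : Fin 7 → ℕ
  | 0 => 10 | 1 => 4096 | 2 => 16777216 | 3 => 687194767360
  | 4 => 281474976710656 | 5 => 11529215046068469760 | 6 => 47223664828696452136960

theorem gX_eq : rowsM gX = Cfsg.jankoMatrixX := by
  decide +kernel

theorem gY_eq : rowsM gY = Cfsg.jankoMatrixY := by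
  decide +kernel

theorem chkX : allB (chkT tabX (gX 0) (gX 1) (gX 2) (gX 3) (gX 4) (gX 5) (gX 6)) 1045 = true := by
  decide +kernel

theorem chkY : allB (chkT tabY (gY 0) (gY 1) (gY 2) (gY 3) (gY 4) (gY 5) (gY 6)) 1045 = true := by
  decide +kernel

theorem chkD : allB (chkT tabD (gD 0) (gD 1) (gD 2) (gD 3) (gD 4) (gD 5) (gD 6)) 1045 = true := by
  decide +kernel

end Cfsg.Agent.J1
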