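import Cfsg.Agent.J1.Card

/-! Multiplication of monomial elements at the level of parameters, centralisers of `x` and of
the involution `D_0`, the normaliser of the Sylow `2`-subgroup. -/

set_option autoImplicit false

namespace Cfsg.Agent.J1

/-- Parameters of a monomial element. -/
abbrev HP := Fin 8 × Fin 7 × Fin 3

def PT : ℕ := 414246530398065538750518603668843387737432207119248705160

def SH : ℕ := 50249313658647179610668144568688058566119454413095427900771258945368350061101367009766797850519675291351390087878666680145958387810143425864779607754376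

def mulE (e f : ℕ) : ℕ := PT / 2 ^ (3 * (8 * e + f)) % 8

def shE (a b e : ℕ) : ℕ := SH / 2 ^ (3 * (8 * (7 * a + b) + e)) % 8

def compP (p q : HP) : HP :=
  (⟨mulE p.1 (shE p.2.2 p.2.1 q.1), Nat.mod_lt _ (by norm_num)⟩,
    ⟨(p.2.1 + 2 ^ (3 - (p.2.2 : ℕ)) * q.2.1) % 7, Nat.mod_lt _ (by norm_num)⟩,
    ⟨(p.2.2 + q.2.2) % 3, Nat.mod_lt _ (by norm_num)⟩)

theorem mulE_spec : ∀ e e' r : ℕ, e < 8 → e' < 8 → r < 7 →
    (xor (neg e r) (neg e' r)) = neg (mulE e e') r := by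
  have h : ∀ e e' : Fin 8, ∀ r : Fin 7, (xor (neg e r) (neg e' r)) = neg (mulE e e') r := by
    decide +kernel
  intro e e' r he he' hr
  exact h ⟨e, he⟩ ⟨e', he'⟩ ⟨r, hr⟩

theorem shE_spec : ∀ e : Fin 8, ∀ b : Fin 7, ∀ a : Fin 3, ∀ r : Fin 7,
    neg e (sgm a b r) = neg (shE a b e) r := by
  decide +kernel

theorem compP_sgm : ∀ a : Fin 3, ∀ b : Fin 7, ∀ a' : Fin 3, ∀ b' : Fin 7, ∀ r : Fin 7,
    sgm a' b' (sgm a b r) = sgm ((a + a' : ℕ) % 3) ((b + 2 ^ (3 - (a : ℕ)) * b') % 7) r := by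
  decide +kernel

theorem hm_compP (p q : HP) : hm p.1 p.2.1 p.2.2 * hm q.1 q.2.1 q.2.2 =
    hm (compP p q).1 (compP p q).2.1 (compP p q).2.2 := by
  apply hm_mul_of
  · intro r
    rw [shE_spec q.1 p.2.1 p.2.2 r]
    exact mulE_spec _ _ _ p.1.2 (Nat.mod_lt _ (by norm_num)) r.2
  · intro r
    exact compP_sgm _ _ _ _ r

theorem hJ_mul (p q : HP) : hJ p * hJ q = hJ (compP p q) := by
  apply J_ext
  rw [Subgroup.coe_mul, Units.val_mul, hJ_coe, hJ_coe, hJ_coe, hm_compP]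

theorem hJ_zero : hJ (0, 0, 0) = 1 := by
  apply J_ext
  rw [hJ_coe]
  exact hm_zero

def invP (p : HP) : HP :=
  (⟨shE (3 - (p.2.2 : ℕ)) 0 (shE 0 (7 - (p.2.1 : ℕ)) p.1), Nat.mod_lt _ (by norm_num)⟩, ⟨(2 ^ (p.2.2 : ℕ) * (7 - (p.2.1 : ℕ))) % 7,
    Nat.mod_lt _ (by norm_num)⟩, ⟨(3 - (p.2.2 : ℕ)) % 3, Nat.mod_lt _ (by norm_num)⟩)

theorem tJ_zero : tJ 0 = 1 := by
  apply J_ext
  rw [tJ_coe]
  exact dmT0

/-- The table entry as parameters. -/
def codeP (q : ℕ) : HP :=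
  (⟨q / 2048 % 8, Nat.mod_lt _ (by norm_num)⟩, ⟨q / 16384 % 8 % 7, Nat.mod_lt _ (by norm_num)⟩,
    ⟨q / 131072 % 3, Nat.mod_lt _ (by norm_num)⟩)

theorem tab_rel {tt : ℕ → ℕ} {g : Fin 7 → ℕ} (hg : ∀ k, okRow (g k) = true)
    (hc : allB (chkT tt (g 0) (g 1) (g 2) (g 3) (g 4) (g 5) (g 6)) 1045 = true)
    {z : J} (hz : rowsM g = ((z : GL7) : M7)) (i : Fin 1045) :
    ∃ j : Fin 1045, (j : ℕ) = tt i % 2048 ∧ tJ i * z = hJ (codeP (tt i)) * tJ j := by
  obtain ⟨hj, hb, ha, hmul⟩ := chkT_spec hg (allB_spec hc i i.2)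
  refine ⟨⟨tt i % 2048, hj⟩, rfl, ?_⟩
  apply J_ext
  rw [Subgroup.coe_mul, Units.val_mul, Subgroup.coe_mul, Units.val_mul, tJ_coe, tJ_coe, hJ_coe,
    ← hz, hmul]
  unfold codeP
  simp only []
  rw [Nat.mod_eq_of_lt hb, Nat.mod_eq_of_lt ha]

/-- Generators as elements of `J`. -/
def xJ : J := ⟨gx, gx_mem⟩
def yJ : J := ⟨gy, gy_mem⟩

theorem xJ_eq : xJ = hJ (0, 1, 0) := by
  apply J_ext
  rw [hJ_coe]
  exact hmX.symm

theorem tab_x (i : Fin 1045) :
    ∃ j : Fin 1045, (j : ℕ) = tabX i % 2048 ∧ tJ i * xJ = hJ (codeP (tabX i)) * tJ j :=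
  tab_rel (by decide +kernel) chkX (z := xJ) gX_eq i

/-- The involution `D_0`. -/
noncomputable def dJ : J := hJ (1, 0, 0)

theorem dJ_coe : ((dJ : GL7) : M7) = hm 1 0 0 := hJ_coe (1, 0, 0)

theorem gD_eq : rowsM gD = hm 1 0 0 := by
  decide +kernel

theorem tab_d (i : Fin 1045) :
    ∃ j : Fin 1045, (j : ℕ) = tabD i % 2048 ∧ tJ i * dJ = hJ (codeP (tabD i)) * tJ j :=
  tab_rel (by decide +kernel) chkD (z := dJ) (gD_eq.trans dJ_coe.symm) i

/-! ### The centraliser of `x` -/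

theorem fixX : allB (fun i => bif Nat.beq (tabX i % 2048) i then Nat.ble i 1 else true) 1045
    = true := by
  decide +kernel

theorem fixD : allB (fun i => bif Nat.beq (tabD i % 2048) i then
    (Nat.beq i 0 || Nat.beq i 620 || Nat.beq i 726 || Nat.beq i 802 || Nat.beq i 948)
    else true) 1045 = true := by
  decide +kernel

theorem fix_x {i : Fin 1045} (h : tabX i % 2048 = i) : i = 0 ∨ i = 1 := by
  have := allB_spec fixX i i.2
  simp only [h] at this
  have h2 : Nat.beq (i : ℕ) i = true := by simp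
  rw [h2] at this
  simp only [cond_true, Nat.ble_eq] at this
  rcases Nat.lt_or_ge (i : ℕ) 1 with h3 | h3
  · left; apply Fin.ext; change (i : ℕ) = 0; omega
  · right; apply Fin.ext; change (i : ℕ) = 1; omega

theorem fix_d {i : Fin 1045} (h : tabD i % 2048 = i) :
    i = 0 ∨ i = 620 ∨ i = 726 ∨ i = 802 ∨ i = 948 := by
  have := allB_spec fixD i i.2
  simp only [h] at this
  have h2 : Nat.beq (i : ℕ) i = true := by simp
  rw [h2] at this
  simp only [cond_true, Bool.or_eq_true, Nat.beq_eq] at this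
  rcases this with (((h3 | h3) | h3) | h3) | h3
  · left; exact Fin.ext h3
  · right; left; exact Fin.ext h3
  · right; right; left; exact Fin.ext h3
  · right; right; right; left; exact Fin.ext h3
  · right; right; right; right; exact Fin.ext h3

/-- General criterion. -/
theorem comm_iff {z : J} {r : HP} (hz : z = hJ r) {p : HP} {i j : Fin 1045} {q : HP}
    (h : tJ i * z = hJ q * tJ j) :
    hJ p * tJ i * z = z * (hJ p * tJ i) ↔ i = j ∧ compP p q = compP r p := by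
  have h1 : hJ p * tJ i * z = hJ (compP p q) * tJ j := by
    rw [mul_assoc, h, ← mul_assoc, hJ_mul]
  have h2 : z * (hJ p * tJ i) = hJ (compP r p) * tJ i := by
    rw [hz, ← mul_assoc, hJ_mul]
  rw [h1, h2]
  constructor
  · intro h3
    obtain ⟨h4, h5⟩ := nf_unique h3
    exact ⟨h5.symm, h4⟩
  · rintro ⟨h4, h5⟩
    rw [h4, h5]

theorem cx_dec0 : ∀ p : HP, compP p (codeP (tabX 0)) = compP (0, 1, 0) p → p.1 = 0 ∧ p.2.2 = 0 := by
  decide +kernel

theorem cx_dec1 : ∀ p : HP, compP p (codeP (tabX 1)) ≠ compP (0, 1, 0) p := by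
  decide +kernel

theorem compP_b : ∀ m : Fin 6, (((0 : Fin 8), (m.succ : Fin 7), (0 : Fin 3)) : HP) =
    compP (0, m.castSucc, 0) (0, 1, 0) := by
  decide +kernel

theorem hJ_b (b : Fin 7) : hJ (0, b, 0) = xJ ^ (b : ℕ) := by
  have h : ∀ n : ℕ, ∀ hn : n < 7, hJ (0, ⟨n, hn⟩, 0) = xJ ^ n := by
    intro n
    induction n with
    | zero => intro hn; rw [pow_zero]; exact hJ_zero
    | succ n ih =>
      intro hn
      rw [pow_succ, ← ih (by omega), xJ_eq, hJ_mul]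
      congr 1
      exact compP_b ⟨n, by omega⟩
  exact h b b.2

theorem centralizer_x {g : J} (hg : g * xJ = xJ * g) : g ∈ Subgroup.zpowers xJ := by
  obtain ⟨p, i, rfl⟩ := nf_exists g
  obtain ⟨j, hj, hrel⟩ := tab_x i
  obtain ⟨hij, hc⟩ := (comm_iff xJ_eq hrel).mp hg
  subst hij
  rcases fix_x hj.symm with rfl | rfl
  · obtain ⟨h1, h2⟩ := cx_dec0 p hc
    have hp : p = (0, p.2.1, 0) := Prod.ext h1 (Prod.ext rfl h2)
    rw [tJ_zero, mul_one, hp, hJ_b]
    exact Subgroup.pow_mem _ (Subgroup.mem_zpowers _) _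
  · exact absurd hc (cx_dec1 p)

end Cfsg.Agent.J1
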