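import Cfsg.Agent.J1.Local

/-! The centraliser of the involution has order `120`; the normaliser of the Sylow `2`-subgroup. -/

set_option autoImplicit false

namespace Cfsg.Agent.J1

/-- The five frames fixed by `D_0`. -/
def fr : Fin 5 → Fin 1045 := ![0, 620, 726, 802, 948]

/-- The corresponding elements of the elementary abelian group. -/
def frE : Fin 5 → Fin 8 := ![1, 4, 6, 6, 6]

theorem fr_code : ∀ k : Fin 5, codeP (tabD (fr k)) = (frE k, 0, 0) := by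
  decide +kernel

theorem fr_fix : ∀ k : Fin 5, tabD (fr k) % 2048 = fr k := by
  decide +kernel

theorem fr_inj : Function.Injective fr := by
  have : ∀ k k' : Fin 5, fr k = fr k' → k = k' := by decide +kernel
  exact fun k k' => this k k'

theorem fr_x : ∀ k k' : Fin 5, tabX (fr k) % 2048 = fr k' → k = 0 := by
  decide +kernel

theorem exists_fr {i : Fin 1045} (h : tabD i % 2048 = i) : ∃ k, i = fr k := by
  rcases fix_d h with rfl | rfl | rfl | rfl | rfl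
  · exact ⟨0, rfl⟩
  · exact ⟨1, rfl⟩
  · exact ⟨2, rfl⟩
  · exact ⟨3, rfl⟩
  · exact ⟨4, rfl⟩

theorem fr_rel (k : Fin 5) : tJ (fr k) * dJ = hJ (frE k, 0, 0) * tJ (fr k) := by
  obtain ⟨j, hj, hrel⟩ := tab_d (fr k)
  rw [fr_fix] at hj
  have : j = fr k := Fin.ext hj
  rw [hrel, this, fr_code]

/-- Parameters of the centraliser of `D_0`. -/
def CDP (q : HP × Fin 5) : Prop := compP q.1 (frE q.2, 0, 0) = compP (1, 0, 0) q.1

instance decCDP : DecidablePred CDP := fun _ => inferInstanceAs (Decidable (_ = _))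

theorem card_CDP : Fintype.card {q : HP × Fin 5 // CDP q} = 120 := by
  decide +kernel

theorem dJ_eq : dJ = hJ (1, 0, 0) := rfl

theorem comm_dJ_iff (p : HP) (k : Fin 5) :
    hJ p * tJ (fr k) * dJ = dJ * (hJ p * tJ (fr k)) ↔ CDP (p, k) := by
  rw [comm_iff dJ_eq (fr_rel k)]
  exact ⟨fun h => h.2, fun h => ⟨rfl, h⟩⟩

theorem exists_of_comm_dJ {g : J} (h : g * dJ = dJ * g) : ∃ p k, g = hJ p * tJ (fr k) := by
  obtain ⟨p, i, rfl⟩ := nf_exists g
  obtain ⟨j, hj, hrel⟩ := tab_d i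
  obtain ⟨hij, -⟩ := (comm_iff dJ_eq hrel).mp h
  subst hij
  obtain ⟨k, rfl⟩ := exists_fr hj.symm
  exact ⟨p, k, rfl⟩

theorem card_centralizer_dJ : Nat.card (Subgroup.centralizer {dJ}) = 120 := by
  have hb : Function.Bijective (fun q : {q : HP × Fin 5 // CDP q} =>
      (⟨hJ q.1.1 * tJ (fr q.1.2), by
        rw [Subgroup.mem_centralizer_singleton_iff]
        exact (comm_dJ_iff q.1.1 q.1.2).mpr q.2⟩ : Subgroup.centralizer {dJ})) := by
    constructor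
    · rintro ⟨⟨p, k⟩, h⟩ ⟨⟨p', k'⟩, h'⟩ heq
      obtain ⟨h1, h2⟩ := nf_unique (congrArg
        (fun z : Subgroup.centralizer {dJ} => (z : J)) heq)
      have h3 := fr_inj h2
      simp only at h1 h3
      subst h1 h3
      rfl
    · rintro ⟨g, hg⟩
      rw [Subgroup.mem_centralizer_singleton_iff] at hg
      obtain ⟨p, k, rfl⟩ := exists_of_comm_dJ hg
      exact ⟨⟨(p, k), (comm_dJ_iff p k).mp hg⟩, rfl⟩
  rw [← Nat.card_eq_of_bijective _ hb, Nat.card_eq_fintype_card, card_CDP]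

/-! ### The elementary abelian subgroup `S` -/

theorem compP_S : ∀ e e' : Fin 8, ∃ e'' : Fin 8, compP (e, 0, 0) (e', 0, 0) = (e'', 0, 0) := by
  decide +kernel

theorem compP_S_comm : ∀ e e' : Fin 8, compP (e, 0, 0) (e', 0, 0) = compP (e', 0, 0) (e, 0, 0) := by
  decide +kernel

theorem compP_S_sq : ∀ e : Fin 8, compP (e, 0, 0) (e, 0, 0) = (0, 0, 0) := by
  decide +kernel

theorem hJ_e_sq (e : Fin 8) : hJ (e, 0, 0) * hJ (e, 0, 0) = 1 := by
  rw [hJ_mul, compP_S_sq, hJ_zero]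

/-- The Sylow `2`-subgroup. -/
def SJ : Subgroup J where
  carrier := {g | ∃ e : Fin 8, g = hJ (e, 0, 0)}
  mul_mem' := by
    rintro _ _ ⟨e, rfl⟩ ⟨e', rfl⟩
    obtain ⟨e'', h⟩ := compP_S e e'
    exact ⟨e'', by rw [hJ_mul, h]⟩
  one_mem' := ⟨0, hJ_zero.symm⟩
  inv_mem' := by
    rintro _ ⟨e, rfl⟩
    exact ⟨e, inv_eq_of_mul_eq_one_left (hJ_e_sq e)⟩

theorem mem_SJ {g : J} : g ∈ SJ ↔ ∃ e : Fin 8, g = hJ (e, 0, 0) := Iff.rfl

theorem SJ_comm {g h : J} (hg : g ∈ SJ) (hh : h ∈ SJ) : g * h = h * g := by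
  obtain ⟨e, rfl⟩ := hg
  obtain ⟨e', rfl⟩ := hh
  rw [hJ_mul, hJ_mul, compP_S_comm]

theorem SJ_sq {g : J} (hg : g ∈ SJ) : g * g = 1 := by
  obtain ⟨e, rfl⟩ := hg
  exact hJ_e_sq e

theorem card_SJ : Nat.card SJ = 8 := by
  have hb : Function.Bijective (fun e : Fin 8 => (⟨hJ (e, 0, 0), e, rfl⟩ : SJ)) := by
    constructor
    · intro e e' h
      exact congrArg Prod.fst (hJ_inj (congrArg (fun z : SJ => (z : J)) h))
    · rintro ⟨g, e, rfl⟩
      exact ⟨e, rfl⟩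
  rw [← Nat.card_eq_of_bijective _ hb, Nat.card_eq_fintype_card, Fintype.card_fin]

theorem SJ_le_HJ : SJ ≤ HJ := by
  rintro _ ⟨e, rfl⟩
  exact hJ_mem _

theorem dJ_mem_SJ : dJ ∈ SJ := ⟨1, rfl⟩

theorem compP_conj : ∀ p : HP, ∀ e : Fin 8, ∃ e' : Fin 8,
    compP p (e, 0, 0) = compP (e', 0, 0) p := by
  decide +kernel

theorem HJ_conj_SJ {h s : J} (hh : h ∈ HJ) (hs : s ∈ SJ) : h * s * h⁻¹ ∈ SJ := by
  obtain ⟨p, rfl⟩ := mem_HJ.mp hh
  obtain ⟨e, rfl⟩ := hs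
  obtain ⟨e', h⟩ := compP_conj p e
  exact ⟨e', by rw [hJ_mul, h, ← hJ_mul, mul_inv_cancel_right]⟩

theorem HJ_le_normalizer : HJ ≤ Subgroup.normalizer (SJ : Set J) := by
  intro h hh
  rw [Subgroup.mem_normalizer_iff]
  intro s
  constructor
  · intro hs
    exact HJ_conj_SJ hh hs
  · intro hs
    have := HJ_conj_SJ (HJ.inv_mem hh) hs
    simpa [mul_assoc] using this

/-- A group element which conjugates `D_0` and its conjugate under `x` into `HJ` is in `HJ`. -/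
theorem mem_HJ_of_conj {g : J} (h1 : g * dJ * g⁻¹ ∈ HJ) (h2 : g * (xJ * dJ * xJ⁻¹) * g⁻¹ ∈ HJ) :
    g ∈ HJ := by
  obtain ⟨p, i, rfl⟩ := nf_exists g
  obtain ⟨j, hj, hrel⟩ := tab_d i
  obtain ⟨k, hk, hkrel⟩ := tab_x i
  obtain ⟨l, hl, hlrel⟩ := tab_d k
  -- `D_0` fixes `i`
  have hij : j = i := by
    obtain ⟨q, hq⟩ := mem_HJ.mp h1
    have e1 : hJ p * tJ i * dJ = hJ (compP p (codeP (tabD i))) * tJ j := by
      rw [mul_assoc, hrel, ← mul_assoc, hJ_mul]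
    have e2 : hJ p * tJ i * dJ = hJ (compP q p) * tJ i := by
      rw [← hJ_mul, ← hq]; group
    exact (nf_unique (e1.symm.trans e2)).2
  have hlk : l = k := by
    obtain ⟨q, hq⟩ := mem_HJ.mp h2
    have e3 : hJ p * tJ i * xJ = hJ (compP p (codeP (tabX i))) * tJ k := by
      rw [mul_assoc, hkrel, ← mul_assoc, hJ_mul]
    have e1 : hJ p * tJ i * xJ * dJ =
        hJ (compP (compP p (codeP (tabX i))) (codeP (tabD k))) * tJ l := by
      rw [e3, mul_assoc, hlrel, ← mul_assoc, hJ_mul]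
    have e2 : hJ p * tJ i * xJ * dJ =
        hJ (compP q (compP p (codeP (tabX i)))) * tJ k := by
      rw [← hJ_mul, mul_assoc (hJ q), ← e3, ← hq]; group
    exact (nf_unique (e1.symm.trans e2)).2
  subst hij hlk
  obtain ⟨a, rfl⟩ := exists_fr hj.symm
  obtain ⟨b, hb⟩ := exists_fr hl.symm
  have : a = 0 := by
    apply fr_x a b
    rw [← hk, hb]
  subst this
  have h0 : fr 0 = 0 := rfl
  rw [h0, tJ_zero, mul_one]
  exact hJ_mem p

theorem xJ_mem_HJ : xJ ∈ HJ := by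
  rw [xJ_eq]
  exact hJ_mem _

theorem normalizer_SJ : Subgroup.normalizer (SJ : Set J) = HJ := by
  apply le_antisymm _ HJ_le_normalizer
  intro g hg
  rw [Subgroup.mem_normalizer_iff] at hg
  have h1 : xJ * dJ * xJ⁻¹ ∈ SJ := HJ_conj_SJ xJ_mem_HJ dJ_mem_SJ
  exact mem_HJ_of_conj (SJ_le_HJ ((hg _).mp dJ_mem_SJ)) (SJ_le_HJ ((hg _).mp h1))

/-! ### Relations in `HJ` -/

/-- The element of order `3`. -/
noncomputable def mJ : J := hJ (0, 0, 1)

theorem mJ_mem_HJ : mJ ∈ HJ := hJ_mem _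

theorem conj_dec : ∀ e : Fin 8, e ≠ 0 → ∃ b : Fin 7,
    compP (0, b, 0) (1, 0, 0) = compP (e, 0, 0) (0, b, 0) := by
  decide +kernel

/-- `x` is transitive on the involutions of `S`. -/
theorem exists_conj_dJ {s : J} (hs : s ∈ SJ) (h1 : s ≠ 1) :
    ∃ b : Fin 7, xJ ^ (b : ℕ) * dJ * (xJ ^ (b : ℕ))⁻¹ = s := by
  obtain ⟨e, rfl⟩ := hs
  have he : e ≠ 0 := by
    rintro rfl
    exact h1 hJ_zero
  obtain ⟨b, hb⟩ := conj_dec e he
  refine ⟨b, ?_⟩
  rw [← hJ_b, mul_inv_eq_iff_eq_mul]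
  unfold dJ
  rw [hJ_mul, hJ_mul, hb]

theorem dJ_ne_one : dJ ≠ 1 := by
  intro h
  have h1 : hJ (1, 0, 0) = hJ (0, 0, 0) := by
    rw [hJ_zero]; exact h
  have h2 := congrArg Prod.fst (hJ_inj h1)
  exact absurd h2 (by decide)

theorem dJ_sq : dJ * dJ = 1 := hJ_e_sq 1

theorem orderOf_dJ : orderOf dJ = 2 := by
  have : Fact (Nat.Prime 2) := ⟨Nat.prime_two⟩
  exact orderOf_eq_prime (by rw [pow_two]; exact dJ_sq) dJ_ne_one

theorem xJ_pow : xJ ^ 7 = 1 := by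
  rw [pow_succ, show (6 : ℕ) = ((6 : Fin 7) : ℕ) from rfl, ← hJ_b, xJ_eq, hJ_mul,
    show compP (0, 6, 0) (0, 1, 0) = (0, 0, 0) by decide +kernel, hJ_zero]

theorem xJ_ne_one : xJ ≠ 1 := by
  intro h
  have h1 : hJ (0, 1, 0) = hJ (0, 0, 0) := by
    rw [hJ_zero, ← xJ_eq]; exact h
  have h2 := hJ_inj h1
  exact absurd h2 (by decide)

theorem orderOf_xJ : orderOf xJ = 7 := by
  have : Fact (Nat.Prime 7) := ⟨by norm_num⟩
  exact orderOf_eq_prime xJ_pow xJ_ne_one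

theorem mJ_pow : mJ ^ 3 = 1 := by
  unfold mJ
  rw [pow_succ, pow_two, hJ_mul, hJ_mul,
    show compP (compP (0, 0, 1) (0, 0, 1)) (0, 0, 1) = (0, 0, 0) by decide +kernel, hJ_zero]

theorem mJ_ne_one : mJ ≠ 1 := by
  intro h
  have h1 : hJ (0, 0, 1) = hJ (0, 0, 0) := by
    rw [hJ_zero]; exact h
  have h2 := hJ_inj h1
  exact absurd h2 (by decide)

theorem orderOf_mJ : orderOf mJ = 3 := by
  have : Fact (Nat.Prime 3) := ⟨by norm_num⟩
  exact orderOf_eq_prime mJ_pow mJ_ne_one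

/-- `m x m⁻¹ = x ^ 4`. -/
theorem mJ_xJ : mJ * xJ = xJ ^ 4 * mJ := by
  rw [show (4 : ℕ) = ((4 : Fin 7) : ℕ) from rfl, ← hJ_b, xJ_eq]
  unfold mJ
  rw [hJ_mul, hJ_mul]
  congr 1

/-- Every element of `HJ` is `s x^b m^a`. -/
theorem hJ_decomp (p : HP) :
    hJ p = hJ (p.1, 0, 0) * xJ ^ (p.2.1 : ℕ) * mJ ^ (p.2.2 : ℕ) := by
  have h3 : ∀ a : Fin 3, mJ ^ (a : ℕ) = hJ (0, 0, a) := by
    intro a
    fin_cases a
    · exact hJ_zero.symm
    · exact pow_one mJ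
    · change mJ ^ 2 = _
      rw [pow_two]
      unfold mJ
      rw [hJ_mul]
      congr 1
  rw [h3, ← hJ_b, hJ_mul, hJ_mul]
  have : ∀ p : HP, p = compP (compP (p.1, 0, 0) (0, p.2.1, 0)) (0, 0, p.2.2) := by
    decide +kernel
  rw [← this p]

end Cfsg.Agent.J1
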