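import Cfsg.Agent.J1.Check

/-! The order of the first Janko group. -/

set_option autoImplicit false

open Matrix

namespace Cfsg.Agent.J1

abbrev GL7 := GL (Fin 7) (ZMod 11)
abbrev J := Cfsg.Spor.J1
abbrev gx : GL7 := Cfsg.Spor.jankoX
abbrev gy : GL7 := Cfsg.Spor.jankoY

/-! ### Monomial matrices -/

theorem neg_comp : ∀ e e' : Fin 8, ∀ b : Fin 7, ∀ a : Fin 3, ∃ e'' : Fin 8, ∀ r : Fin 7,
    (xor (neg e r) (neg e' (sgm a b r))) = neg e'' r := by
  decide +kernel

theorem sgm_comp : ∀ a : Fin 3, ∀ b : Fin 7, ∀ a' : Fin 3, ∀ b' : Fin 7, ∃ a'' : Fin 3,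
    ∃ b'' : Fin 7, ∀ r : Fin 7, sgm a' b' (sgm a b r) = sgm a'' b'' r := by
  decide +kernel

theorem hm_mul (e : Fin 8) (b : Fin 7) (a : Fin 3) (e' : Fin 8) (b' : Fin 7) (a' : Fin 3) :
    ∃ e'' : Fin 8, ∃ b'' : Fin 7, ∃ a'' : Fin 3, hm e b a * hm e' b' a' = hm e'' b'' a'' := by
  obtain ⟨e'', he⟩ := neg_comp e e' b a
  obtain ⟨a'', b'', hf⟩ := sgm_comp a b a' b'
  refine ⟨e'', b'', a'', ?_⟩
  unfold hm
  rw [mono_mul_mono]
  congr 1
  · funext r
    have h := he r
    have h2 : ((sgmF a b r : Fin 7) : ℕ) = sgm a b r := rfl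
    unfold sg
    rw [h2, ← h]
    cases neg e r <;> cases neg e' (sgm a b r) <;> simp
  · funext r
    apply Fin.ext
    exact hf r

theorem hm_zero : hm 0 0 0 = 1 := by
  have h1 : sg 0 = fun _ => 1 := by
    funext r
    unfold sg
    have : ∀ r : Fin 7, neg 0 r = false := by decide +kernel
    rw [this r]
    rfl
  have h2 : sgmF 0 0 = id := by
    funext r
    apply Fin.ext
    change sgm 0 0 r = r
    have : ∀ r : Fin 7, sgm 0 0 r = r := by decide +kernel
    exact this r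
  unfold hm
  rw [h1, h2]
  ext r c
  simp [mono, Matrix.one_apply]

theorem dmT0 : dm (TTf 0) = 1 := by
  decide +kernel

/-! ### The covering set -/

/-- The matrices `h * T i`. -/
def InS (M : M7) : Prop :=
  ∃ (e : Fin 8) (b : Fin 7) (a : Fin 3) (i : Fin 1045), M = hm e b a * dm (TTf i)

theorem InS_one : InS 1 := ⟨0, 0, 0, 0, by
  have h : ((0 : Fin 1045) : ℕ) = 0 := rfl
  rw [h, dmT0, mul_one]
  exact hm_zero.symm⟩

theorem InS_mul {tt : ℕ → ℕ} {g : Fin 7 → ℕ} (hg : ∀ k, okRow (g k) = true)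
    (hc : allB (chkT tt (g 0) (g 1) (g 2) (g 3) (g 4) (g 5) (g 6)) 1045 = true)
    {M : M7} (hM : InS M) : InS (M * rowsM g) := by
  obtain ⟨e, b, a, i, rfl⟩ := hM
  obtain ⟨hj, hb, ha, hmul⟩ := chkT_spec hg (allB_spec hc i i.2)
  obtain ⟨e'', b'', a'', hh⟩ := hm_mul e b a ⟨tt i / 2048 % 8, Nat.mod_lt _ (by norm_num)⟩
    ⟨tt i / 16384 % 8, hb⟩ ⟨tt i / 131072, ha⟩
  refine ⟨e'', b'', a'', ⟨tt i % 2048, hj⟩, ?_⟩
  rw [mul_assoc, hmul, ← mul_assoc, hh]

theorem InS_mulX {M : M7} (hM : InS M) : InS (M * Cfsg.jankoMatrixX) := by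
  rw [← gX_eq]
  exact InS_mul (by decide +kernel) chkX hM

theorem InS_mulY {M : M7} (hM : InS M) : InS (M * Cfsg.jankoMatrixY) := by
  rw [← gY_eq]
  exact InS_mul (by decide +kernel) chkY hM

theorem J_le_InS {g : GL7} (hg : g ∈ J) : InS (g : M7) := by
  have key : ∀ M : M7, InS M → InS (M * (g : M7)) := by
    have hg' : g ∈ Subgroup.closure ({gx, gy} : Set GL7) := hg
    refine Subgroup.closure_induction (k := ({gx, gy} : Set GL7))
      (p := fun g _ => ∀ M : M7, InS M → InS (M * (g : M7))) ?_ ?_ ?_ ?_ hg'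
    · intro z hz M hM
      rcases hz with rfl | hz
      · exact InS_mulX hM
      · rw [Set.mem_singleton_iff] at hz
        subst hz
        exact InS_mulY hM
    · intro M hM
      simpa using hM
    · intro z w _ _ hz hw M hM
      rw [Units.val_mul, ← mul_assoc]
      exact hw _ (hz _ hM)
    · intro z _ hz M hM
      have hpow : ∀ n : ℕ, ∀ M : M7, InS M → InS (M * ((z ^ n : GL7) : M7)) := by
        intro n
        induction n with
        | zero => intro M hM; simpa using hM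
        | succ n ih =>
          intro M hM
          rw [pow_succ, Units.val_mul, ← mul_assoc]
          exact hz _ (ih _ hM)
      have hinv : z⁻¹ = z ^ (orderOf z - 1) := by
        rw [inv_eq_iff_mul_eq_one, ← pow_succ']
        have : orderOf z - 1 + 1 = orderOf z := Nat.sub_add_cancel (orderOf_pos z)
        rw [this, pow_orderOf_eq_one]
      rw [hinv]
      exact hpow _ _ hM
  have := key 1 InS_one
  simpa using this

abbrev Idx := Fin 8 × Fin 7 × Fin 3 × Fin 1045

def fIdx (p : Idx) : M7 := hm p.1 p.2.1 p.2.2.1 * dm (TTf p.2.2.2)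

theorem card_Idx : Nat.card Idx = 175560 := by
  simp only [Nat.card_eq_fintype_card, Fintype.card_prod, Fintype.card_fin]

theorem card_J_le : Nat.card J ≤ 175560 := by
  rw [← card_Idx]
  have hsub : ∀ g : J, ∃ p : Idx, fIdx p = ((g : GL7) : M7) := by
    intro g
    obtain ⟨e, b, a, i, h⟩ := J_le_InS g.2
    exact ⟨(e, b, a, i), h.symm⟩
  choose φ hφ using hsub
  have hinj : Function.Injective φ := by
    intro g g' h
    apply Subtype.ext
    apply Units.ext
    rw [← hφ g, ← hφ g', h]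
  exact Nat.card_le_card_of_injective φ hinj

end Cfsg.Agent.J1
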