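import Cfsg.Agent.J1.Schur
import Cfsg.Agent.J1.Cent
import Cfsg.Agent.H60.Gen3

/-! Every automorphism of `J1` is inner. -/

set_option autoImplicit false

namespace Cfsg.Agent.J1

open Subgroup Cfsg.Agent.H60

theorem fix1 : tabX ((1 : Fin 1045) : ℕ) % 2048 = ((1 : Fin 1045) : ℕ) := by decide +kernel

theorem code1 : codeP (tabX ((1 : Fin 1045) : ℕ)) = (3, 6, 0) := by decide +kernel

theorem t1_rel : tJ 1 * xJ = hJ (3, 6, 0) * tJ 1 := by
  obtain ⟨j, hj, hrel⟩ := tab_x 1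
  rw [fix1] at hj
  have : j = 1 := Fin.ext hj
  rw [hrel, this, code1]

/-- An element inverting `x`. -/
noncomputable def uJ : J := hJ (5, 0, 0) * tJ 1

theorem uJ_rel : uJ * xJ = xJ ^ 6 * uJ := by
  have h6 : xJ ^ 6 = hJ (0, 6, 0) := (hJ_b 6).symm
  have hc : compP (5, 0, 0) (3, 6, 0) = compP (0, 6, 0) (5, 0, 0) := by decide +kernel
  unfold uJ
  rw [mul_assoc, t1_rel, ← mul_assoc, hJ_mul, hc, ← hJ_mul, h6, mul_assoc]

theorem conj_pow_rel {G : Type*} [Group G] {n x : G} {k : ℕ} (h : n * x * n⁻¹ = x ^ k) (j : ℕ) :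
    n * x ^ j * n⁻¹ = x ^ (k * j) := by
  rw [← conj_pow, h, pow_mul]

theorem comp_rel {G : Type*} [Group G] {n n' x : G} {k k' : ℕ} (h : n * x * n⁻¹ = x ^ k)
    (h' : n' * x * n'⁻¹ = x ^ k') : (n * n') * x * (n * n')⁻¹ = x ^ (k * k') := by
  have : (n * n') * x * (n * n')⁻¹ = n * (n' * x * n'⁻¹) * n⁻¹ := by group
  rw [this, h', conj_pow_rel h]

theorem xJ_pow_mod (n : ℕ) : xJ ^ n = xJ ^ (n % 7) := by
  have h := pow_mod_orderOf xJ n
  simp only [orderOf_xJ] at h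
  exact h.symm

/-- Every automorphism of `⟨x⟩` is realised. -/
theorem exists_conj_pow (k : Fin 7) (hk : k ≠ 0) : ∃ n : J, n * xJ * n⁻¹ = xJ ^ (k : ℕ) := by
  have hm : mJ * xJ * mJ⁻¹ = xJ ^ 4 := by
    rw [mul_inv_eq_iff_eq_mul]; exact mJ_xJ
  have hu : uJ * xJ * uJ⁻¹ = xJ ^ 6 := by
    rw [mul_inv_eq_iff_eq_mul]; exact uJ_rel
  have hmm := comp_rel hm hm
  have hmu := comp_rel hm hu
  have hmmu := comp_rel hmm hu
  rw [xJ_pow_mod] at hmm hmu hmmu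
  fin_cases k
  · exact absurd rfl hk
  · exact ⟨1, by simp⟩
  · exact ⟨_, hmm⟩
  · exact ⟨_, hmu⟩
  · exact ⟨_, hm⟩
  · exact ⟨_, hmmu⟩
  · exact ⟨_, hu⟩

/-- Step 1: adjust `φ` so that `x` is fixed. -/
theorem step1 (φ : MulAut J) : ∃ n : J, n * φ xJ * n⁻¹ = xJ := by
  have : Fact (Nat.Prime 7) := ⟨by norm_num⟩
  have ho : orderOf (φ xJ) = 7 := by
    rw [MulEquiv.orderOf_eq, orderOf_xJ]
  obtain ⟨g, hg⟩ := exists_conj_zpowers ho orderOf_xJ (by rw [card_J]; norm_num)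
  have h1 : g * φ xJ * g⁻¹ ∈ zpowers xJ := by
    rw [← hg]; exact mem_zpowers _
  rw [mem_zpowers_iff_mem_range_orderOf] at h1
  rw [Finset.mem_image] at h1
  obtain ⟨k, hk, hk2⟩ := h1
  rw [Finset.mem_range, orderOf_xJ] at hk
  have hk0 : (⟨k, hk⟩ : Fin 7) ≠ 0 := by
    intro h
    have : k = 0 := congrArg Fin.val h
    subst this
    rw [pow_zero] at hk2
    have h3 : φ xJ = 1 := by
      have := congrArg (fun z => g⁻¹ * z * g) hk2.symm
      simpa [mul_assoc] using this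
    rw [h3, orderOf_one] at ho
    exact absurd ho (by norm_num)
  obtain ⟨n, hn⟩ := exists_conj_pow ⟨k, hk⟩ hk0
  refine ⟨n⁻¹ * g, ?_⟩
  have h2 : n⁻¹ * g * φ xJ * (n⁻¹ * g)⁻¹ = n⁻¹ * (g * φ xJ * g⁻¹) * n := by group
  rw [h2, ← hk2]
  change n⁻¹ * xJ ^ ((⟨k, hk⟩ : Fin 7) : ℕ) * n = xJ
  rw [← hn]
  group

theorem sI_inj {a b : Fin 7} (h : sI a = sI b) : a = b := by
  have key : ∀ a : Fin 7, ∃ e : Fin 8, compP (0, a, 0) (1, 0, 0) = compP (e, 0, 0) (0, a, 0) := by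
    decide +kernel
  obtain ⟨e, he⟩ := key a
  obtain ⟨e', he'⟩ := key b
  rw [sI_eq he, sI_eq he'] at h
  have h1 := congrArg Prod.fst (hJ_inj h)
  simp only at h1
  subst h1
  have key2 : ∀ a b : Fin 7, ∀ e : Fin 8, compP (0, a, 0) (1, 0, 0) = compP (e, 0, 0) (0, a, 0) →
      compP (0, b, 0) (1, 0, 0) = compP (e, 0, 0) (0, b, 0) → a = b := by
    decide +kernel
  exact key2 a b e he he'

theorem pow_six_inv {G : Type*} [Group G] {x : G} (h : x ^ 7 = 1) : x ^ 6 = x⁻¹ := by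
  rw [eq_inv_iff_mul_eq_one, ← pow_succ]
  exact h

/-- Abstract part of step 2. -/
theorem abs2 {G : Type*} [Group G] (x u : G) (s : ℕ → G) (f : G →* G)
    (hadd : ∀ m n, s (m + n) = x ^ m * s n * (x ^ m)⁻¹) (hcomm : ∀ m n, s m * s n = s n * s m)
    (hrel0 : s 0 * s 1 = s 3) (hu : u * x * u⁻¹ = x⁻¹) (hx : f x = x) (b : ℕ)
    (hb : s b = u * f (s 0) * u⁻¹) : s 0 = s 5 := by
  have hs0 : ∀ n, s n = x ^ n * s 0 * (x ^ n)⁻¹ := by
    intro n
    have := hadd n 0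
    rwa [add_zero] at this
  have e1 : ∀ n : ℕ, u * x ^ n * u⁻¹ = (x ^ n)⁻¹ := by
    intro n
    rw [← conj_pow, hu, inv_pow]
  have hn : ∀ n : ℕ, u * f (s n) * u⁻¹ = (x ^ n)⁻¹ * s b * x ^ n := by
    intro n
    have e2 : u * f (s n) * u⁻¹ = (u * x ^ n * u⁻¹) * (u * f (s 0) * u⁻¹) *
        (u * x ^ n * u⁻¹)⁻¹ := by
      rw [hs0 n, map_mul, map_mul, map_inv, map_pow, hx]
      group
    rw [e2, e1, ← hb, inv_inv]
  have hrel2 : (u * f (s 0) * u⁻¹) * (u * f (s 1) * u⁻¹) = u * f (s 3) * u⁻¹ := by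
    rw [← hrel0, map_mul]; group
  rw [hn 1, hn 3, ← hb] at hrel2
  have e3 : s (b + 3) * s (b + 2) = s b := by
    have a1 : s (b + 3) = x ^ 3 * s b * (x ^ 3)⁻¹ := by rw [add_comm, hadd]
    have a2 : s (b + 2) = x ^ 2 * s b * (x ^ 2)⁻¹ := by rw [add_comm, hadd]
    have a3 : s b = x ^ 3 * ((x ^ 3)⁻¹ * s b * x ^ 3) * (x ^ 3)⁻¹ := by group
    rw [a3, ← hrel2, a1, a2]
    group
  have hrel : ∀ n, s n * s (n + 1) = s (n + 3) := by
    intro n
    rw [hs0 n, hadd n 1, hadd n 3, ← hrel0]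
    group
  have e4 : s (b + 3) * s (b + 2) = s (b + 5) := by
    rw [hcomm]
    exact hrel (b + 2)
  have e5 : s b = s (b + 5) := e3.symm.trans e4
  rw [hs0 b, hadd b 5] at e5
  exact mul_left_cancel (mul_right_cancel e5)

/-- Step 2: if `φ x = x` then `φ S = S`. -/
theorem step2 (φ : MulAut J) (hx : φ xJ = xJ) {s : J} (hs : s ∈ SJ) : φ s ∈ SJ := by
  -- `φ S = g S g⁻¹`
  have hT : ∃ g : J, ∀ s : J, s ∈ SJ → g⁻¹ * φ s * g ∈ SJ := by
    have : Fact (Nat.Prime 2) := ⟨Nat.prime_two⟩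
    have h1 : IsPGroup 2 (SJ.map φ.toMonoidHom) := sylJ.2.map _
    obtain ⟨Q, hQ⟩ := h1.exists_le_sylow
    obtain ⟨g, hg⟩ := MulAction.exists_smul_eq J Q sylJ
    refine ⟨g⁻¹, ?_⟩
    intro s hs
    rw [← sylJ_coe, ← hg, Sylow.coe_subgroup_smul, Subgroup.mem_pointwise_smul_iff_inv_smul_mem,
      ← map_inv, MulAut.smul_def, MulAut.conj_apply]
    have : g⁻¹ * (g⁻¹⁻¹ * φ s * g⁻¹) * g⁻¹⁻¹ = φ s := by group
    rw [this]
    exact hQ ⟨s, hs, rfl⟩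
  obtain ⟨g, hg⟩ := hT
  have hsurj : ∀ r ∈ SJ, ∃ s ∈ SJ, g⁻¹ * φ s * g = r := by
    intro r hr
    have hm : ∀ s ∈ SJ, ((MulAut.conj g⁻¹) * φ) s ∈ SJ := by
      intro s hs
      have := hg s hs
      change g⁻¹ * φ s * g⁻¹⁻¹ ∈ SJ
      rwa [inv_inv]
    obtain ⟨s, hs, hsr⟩ := exists_preimage_of_maps ((MulAut.conj g⁻¹) * φ) hm r hr
    refine ⟨s, hs, ?_⟩
    rw [← hsr]
    change _ = g⁻¹ * φ s * g⁻¹⁻¹
    rw [inv_inv]
  -- `g⁻¹ x g` normalises `S`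
  have hN : g⁻¹ * xJ * g ∈ HJ := by
    rw [← normalizer_SJ]
    apply mem_normalizer_of_conj_le
    intro r hr
    obtain ⟨s, hs, rfl⟩ := hsurj r hr
    have h1 : (g⁻¹ * xJ * g) * (g⁻¹ * φ s * g) * (g⁻¹ * xJ * g)⁻¹ =
        g⁻¹ * φ (xJ * s * xJ⁻¹) * g := by
      rw [map_mul, map_mul, map_inv, hx]
      group
    rw [h1]
    exact hg _ (HJ_conj_SJ xJ_mem_HJ hs)
  obtain ⟨p, i, hpi⟩ := nf_exists g⁻¹
  obtain ⟨j, hj, hrel⟩ := tab_x i
  obtain ⟨q, hq⟩ := mem_HJ.mp hN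
  have hij : i = j := by
    have e1 : hJ p * tJ i * xJ = hJ (compP p (codeP (tabX i))) * tJ j := by
      rw [mul_assoc, hrel, ← mul_assoc, hJ_mul]
    have e2 : hJ p * tJ i * xJ = hJ (compP q p) * tJ i := by
      rw [← hJ_mul, ← hq, mul_assoc (g⁻¹ * xJ * g), ← hpi]; group
    exact (nf_unique (e2.symm.trans e1)).2
  subst hij
  rcases fix_x hj.symm with rfl | rfl
  · -- the good case
    rw [tJ_zero, mul_one] at hpi
    have hgH : g ∈ HJ := by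
      have : g⁻¹ ∈ HJ := by rw [hpi]; exact hJ_mem p
      simpa using HJ.inv_mem this
    have h1 := HJ_conj_SJ hgH (hg s hs)
    have h2 : g * (g⁻¹ * φ s * g) * g⁻¹ = φ s := by group
    rwa [h2] at h1
  · exfalso
    -- `u φ(s) u⁻¹ ∈ S`
    have hu : ∀ s ∈ SJ, uJ * φ s * uJ⁻¹ ∈ SJ := by
      intro s hs
      have h1 : uJ = (hJ (5, 0, 0) * (hJ p)⁻¹) * g⁻¹ := by
        rw [hpi]; unfold uJ; group
      have h2 : uJ * φ s * uJ⁻¹ = (hJ (5, 0, 0) * (hJ p)⁻¹) * (g⁻¹ * φ s * g) *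
          (hJ (5, 0, 0) * (hJ p)⁻¹)⁻¹ := by
        rw [h1]; group
      rw [h2]
      exact HJ_conj_SJ (HJ.mul_mem (hJ_mem _) (HJ.inv_mem (hJ_mem _))) (hg s hs)
    have hconj : uJ * xJ * uJ⁻¹ = xJ⁻¹ := by
      rw [mul_inv_eq_iff_eq_mul, uJ_rel, pow_six_inv xJ_pow]
    have h0 : uJ * φ (sI 0) * uJ⁻¹ ∈ SJ := hu _ (sI_mem 0)
    have h01 : uJ * φ (sI 0) * uJ⁻¹ ≠ 1 := by
      intro h
      have h3 : φ (sI 0) = 1 := by
        rw [mul_inv_eq_one] at h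
        exact mul_left_cancel (h.trans (mul_one _).symm)
      have h4 : sI 0 = 1 := by
        rw [← map_one φ] at h3
        exact φ.injective h3
      apply dJ_ne_one
      unfold sI at h4
      simpa using h4
    obtain ⟨b, hb⟩ := exists_conj_dJ h0 h01
    have e6 : sI 0 = sI 5 := abs2 xJ uJ sI φ.toMonoidHom sI_add
      (fun m n => SJ_comm (sI_mem m) (sI_mem n)) sI_rel0 hconj hx b hb
    have := sI_inj (a := 0) (b := 5) e6
    exact absurd this (by decide)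

/-- Step 3: adjust so that `x` and `S` are fixed. -/
theorem step3 (φ : MulAut J) (hx : φ xJ = xJ) :
    ∃ n : J, n * φ xJ * n⁻¹ = xJ ∧ ∀ s ∈ SJ, n * φ s * n⁻¹ = s := by
  have h1 : φ dJ ∈ SJ := step2 φ hx dJ_mem_SJ
  have h2 : φ dJ ≠ 1 := by
    intro h
    rw [← map_one φ] at h
    exact dJ_ne_one (φ.injective h)
  obtain ⟨b, hb⟩ := exists_conj_dJ h1 h2
  refine ⟨(xJ ^ (b : ℕ))⁻¹, ?_, ?_⟩
  · rw [hx]
    group
  · intro s hs
    by_cases hs1 : s = 1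
    · rw [hs1, map_one]; group
    · obtain ⟨c, rfl⟩ := exists_conj_dJ hs hs1
      rw [map_mul, map_mul, map_inv, map_pow, hx, ← hb]
      group

theorem yx_J : yJ * xJ = hJ (3, 6, 0) * yJ := by
  apply J_ext
  rw [Subgroup.coe_mul, Units.val_mul, Subgroup.coe_mul, Units.val_mul, hJ_coe]
  exact yx_rel

/-- Step 4: an automorphism fixing `x` and `S` pointwise is trivial. -/
theorem step4 (φ : MulAut J) (hx : φ xJ = xJ) (hS : ∀ s ∈ SJ, φ s = s) : φ = 1 := by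
  have h36 : φ (hJ (3, 6, 0)) = hJ (3, 6, 0) := by
    have hc : compP (3, 0, 0) (0, 6, 0) = (3, 6, 0) := by decide +kernel
    rw [← hc, ← hJ_mul, map_mul, hS _ ⟨3, rfl⟩, hJ_b, map_pow, hx]
  have h1 : φ yJ * xJ = hJ (3, 6, 0) * φ yJ := by
    have := congrArg φ yx_J
    rwa [map_mul, map_mul, hx, h36] at this
  have h2 : (yJ⁻¹ * φ yJ) * xJ = xJ * (yJ⁻¹ * φ yJ) := by
    have e1 : yJ⁻¹ * hJ (3, 6, 0) = xJ * yJ⁻¹ := by
      rw [inv_mul_eq_iff_eq_mul, ← mul_assoc, yx_J, mul_assoc, mul_inv_cancel, mul_one]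
    rw [mul_assoc, h1, ← mul_assoc, e1, mul_assoc]
  have h3 := centralizer_x h2
  rw [mem_zpowers_iff_mem_range_orderOf, Finset.mem_image] at h3
  obtain ⟨j, hj, hj2⟩ := h3
  rw [Finset.mem_range, orderOf_xJ] at hj
  have hy : φ yJ = yJ * xJ ^ j := by
    change xJ ^ j = _ at hj2
    rw [hj2]; group
  have hpow : ∀ n : ℕ, (φ ^ n) yJ = yJ * xJ ^ (n * j) := by
    intro n
    induction n with
    | zero => simp
    | succ n ih =>
      rw [pow_succ', MulAut.mul_apply, ih, map_mul, hy, map_pow, hx, mul_assoc, ← pow_add]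
      congr 2
      ring
  have hord : ∀ n : ℕ, orderOf (yJ * xJ ^ (n * j)) = 5 := by
    intro n
    rw [← hpow n, MulEquiv.orderOf_eq, orderOf_yJ]
  have h19 : orderOf (yJ * xJ ^ 3) = 19 := by
    have e1 : z19J = xJ ^ 3 * yJ := by
      apply Subtype.ext
      change gx * gx * gx * gy = gx ^ 3 * gy
      rw [pow_succ, pow_two]
    have e2 : yJ * xJ ^ 3 = (MulAut.conj (xJ ^ 3)⁻¹) z19J := by
      rw [MulAut.conj_apply, e1]
      group
    rw [e2, MulEquiv.orderOf_eq, orderOf_z19J]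
  have hj0 : j = 0 := by
    by_contra hne
    have : ∃ n : ℕ, (n * j) % 7 = 3 := by
      interval_cases j
      · exact absurd rfl hne
      · exact ⟨3, rfl⟩
      · exact ⟨5, rfl⟩
      · exact ⟨1, rfl⟩
      · exact ⟨6, rfl⟩
      · exact ⟨2, rfl⟩
      · exact ⟨4, rfl⟩
    obtain ⟨n, hn⟩ := this
    have h5 := hord n
    rw [xJ_pow_mod, hn, h19] at h5
    exact absurd h5 (by norm_num)
  rw [hj0, pow_zero, mul_one] at hy
  have hle : (⊤ : Subgroup J) ≤ φ.toMonoidHom.eqLocus (MonoidHom.id J) := by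
    rw [← closure_top, Subgroup.closure_le]
    intro z hz
    rcases hz with rfl | hz
    · exact hx
    · rw [Set.mem_singleton_iff] at hz
      subst hz
      exact hy
  ext z
  have := hle (Subgroup.mem_top z)
  exact congrArg (fun w : J => ((w : GL7) : M7) _ _) this

theorem aut_inner (φ : MulAut J) : φ ∈ Cfsg.Inn J := by
  obtain ⟨n, hn⟩ := step1 φ
  set φ₁ : MulAut J := MulAut.conj n * φ with h1
  have hx1 : φ₁ xJ = xJ := hn
  obtain ⟨k, hk, hk2⟩ := step3 φ₁ hx1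
  have h2 : MulAut.conj k * φ₁ = 1 := step4 _ hk hk2
  have h3 : φ = (MulAut.conj n)⁻¹ * (MulAut.conj k)⁻¹ := by
    rw [h1, ← mul_assoc] at h2
    rw [← mul_inv_rev]
    exact eq_inv_of_mul_eq_one_right h2
  rw [h3]
  exact (Cfsg.Inn J).mul_mem ((Cfsg.Inn J).inv_mem ⟨n, rfl⟩) ((Cfsg.Inn J).inv_mem ⟨k, rfl⟩)

theorem card_Out_J : Nat.card (Cfsg.Out J) = 1 := by
  have h : Cfsg.Inn J = ⊤ := by
    rw [eq_top_iff]
    intro φ _
    exact aut_inner φ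
  have h2 : (Cfsg.Inn J).index = 1 := by rw [h, Subgroup.index_top]
  exact h2

end Cfsg.Agent.J1
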