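import Mathlib

/-! Packed arithmetic for 7 × 7 matrices over `ZMod 11`: a row is a natural number with seven
base-4096 digits. -/

set_option autoImplicit false

namespace Cfsg.Agent.J1

abbrev F := ZMod 11
abbrev M7 := Matrix (Fin 7) (Fin 7) (ZMod 11)

/-- The `k`-th base-4096 digit. -/
def dg (n k : ℕ) : ℕ := n / 4096 ^ k % 4096

/-- Seven digits packed. -/
def pk (f0 f1 f2 f3 f4 f5 f6 : ℕ) : ℕ :=
  f0 + 4096 * f1 + 4096 ^ 2 * f2 + 4096 ^ 3 * f3 + 4096 ^ 4 * f4 + 4096 ^ 5 * f5 + 4096 ^ 6 * f6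

/-- All seven digits are at most 15 and there are no further digits. -/
def okRow (n : ℕ) : Bool :=
  Nat.ble (n % 4096) 15 && Nat.ble (n / 4096 % 4096) 15 && Nat.ble (n / 4096 ^ 2 % 4096) 15 &&
  Nat.ble (n / 4096 ^ 3 % 4096) 15 && Nat.ble (n / 4096 ^ 4 % 4096) 15 &&
  Nat.ble (n / 4096 ^ 5 % 4096) 15 && Nat.ble (n / 4096 ^ 6) 15

/-- Row times matrix, without reduction. -/
def rmul (a b0 b1 b2 b3 b4 b5 b6 : ℕ) : ℕ :=
  a % 4096 * b0 + a / 4096 % 4096 * b1 + a / 4096 ^ 2 % 4096 * b2 + a / 4096 ^ 3 % 4096 * b3 +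
  a / 4096 ^ 4 % 4096 * b4 + a / 4096 ^ 5 % 4096 * b5 + a / 4096 ^ 6 * b6

/-- Digitwise reduction modulo 11. -/
def red (u : ℕ) : ℕ :=
  u % 4096 % 11 + 4096 * (u / 4096 % 4096 % 11) + 4096 ^ 2 * (u / 4096 ^ 2 % 4096 % 11) +
  4096 ^ 3 * (u / 4096 ^ 3 % 4096 % 11) + 4096 ^ 4 * (u / 4096 ^ 4 % 4096 % 11) +
  4096 ^ 5 * (u / 4096 ^ 5 % 4096 % 11) + 4096 ^ 6 * (u / 4096 ^ 6 % 4096 % 11)

/-- The row vector encoded by a packed row. -/
def dr (n : ℕ) : Fin 7 → F := fun c => (dg n c : F)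

theorem dg_pk {f0 f1 f2 f3 f4 f5 f6 : ℕ} (h0 : f0 < 4096) (h1 : f1 < 4096) (h2 : f2 < 4096)
    (h3 : f3 < 4096) (h4 : f4 < 4096) (h5 : f5 < 4096) (h6 : f6 < 4096) :
    dg (pk f0 f1 f2 f3 f4 f5 f6) 0 = f0 ∧ dg (pk f0 f1 f2 f3 f4 f5 f6) 1 = f1 ∧
    dg (pk f0 f1 f2 f3 f4 f5 f6) 2 = f2 ∧ dg (pk f0 f1 f2 f3 f4 f5 f6) 3 = f3 ∧
    dg (pk f0 f1 f2 f3 f4 f5 f6) 4 = f4 ∧ dg (pk f0 f1 f2 f3 f4 f5 f6) 5 = f5 ∧
    dg (pk f0 f1 f2 f3 f4 f5 f6) 6 = f6 := by
  unfold dg pk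
  norm_num
  refine ⟨?_, ?_, ?_, ?_, ?_, ?_, ?_⟩ <;> omega

theorem okRow_spec {n : ℕ} (h : okRow n = true) :
    n = pk (dg n 0) (dg n 1) (dg n 2) (dg n 3) (dg n 4) (dg n 5) (dg n 6) ∧
      ∀ j : Fin 7, dg n j ≤ 15 := by
  simp only [okRow, Bool.and_eq_true, Nat.ble_eq] at h
  obtain ⟨⟨⟨⟨⟨⟨h0, h1⟩, h2⟩, h3⟩, h4⟩, h5⟩, h6⟩ := h
  constructor
  · unfold dg pk
    norm_num at *
    omega
  · intro j
    unfold dg
    fin_cases j <;> norm_num at * <;> omega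


theorem dr_eq {n : ℕ} {v : Fin 7 → F} (h0 : (dg n 0 : F) = v 0) (h1 : (dg n 1 : F) = v 1)
    (h2 : (dg n 2 : F) = v 2) (h3 : (dg n 3 : F) = v 3) (h4 : (dg n 4 : F) = v 4)
    (h5 : (dg n 5 : F) = v 5) (h6 : (dg n 6 : F) = v 6) : dr n = v := by
  funext c
  fin_cases c
  · exact h0
  · exact h1
  · exact h2
  · exact h3
  · exact h4
  · exact h5
  · exact h6

theorem dr_red {u : ℕ} : dr (red u) = dr u := by
  have key : red u = pk (dg u 0 % 11) (dg u 1 % 11) (dg u 2 % 11) (dg u 3 % 11) (dg u 4 % 11)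
      (dg u 5 % 11) (dg u 6 % 11) := by
    unfold red pk dg
    norm_num
  have hb : ∀ k, dg u k % 11 < 4096 := fun k => by omega
  obtain ⟨e0, e1, e2, e3, e4, e5, e6⟩ := dg_pk (hb 0) (hb 1) (hb 2) (hb 3) (hb 4) (hb 5) (hb 6)
  have hc : ∀ m : ℕ, ((m % 11 : ℕ) : F) = (m : F) := fun m => by
    exact (ZMod.natCast_mod m 11)
  apply dr_eq
  · rw [key, e0, hc]; rfl
  · rw [key, e1, hc]; rfl
  · rw [key, e2, hc]; rfl
  · rw [key, e3, hc]; rfl
  · rw [key, e4, hc]; rfl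
  · rw [key, e5, hc]; rfl
  · rw [key, e6, hc]; rfl

theorem okRow_red (u : ℕ) : okRow (red u) = true := by
  have key : red u = pk (dg u 0 % 11) (dg u 1 % 11) (dg u 2 % 11) (dg u 3 % 11) (dg u 4 % 11)
      (dg u 5 % 11) (dg u 6 % 11) := by
    unfold red pk dg
    norm_num
  rw [key]
  have hb : ∀ k, dg u k % 11 ≤ 10 := fun k => by omega
  have h0 := hb 0
  have h1 := hb 1
  have h2 := hb 2
  have h3 := hb 3
  have h4 := hb 4
  have h5 := hb 5
  have h6 := hb 6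
  generalize dg u 0 % 11 = f0 at *
  generalize dg u 1 % 11 = f1 at *
  generalize dg u 2 % 11 = f2 at *
  generalize dg u 3 % 11 = f3 at *
  generalize dg u 4 % 11 = f4 at *
  generalize dg u 5 % 11 = f5 at *
  generalize dg u 6 % 11 = f6 at *
  simp only [okRow, Bool.and_eq_true, Nat.ble_eq]
  unfold pk
  norm_num
  refine ⟨⟨⟨⟨⟨⟨?_, ?_⟩, ?_⟩, ?_⟩, ?_⟩, ?_⟩, ?_⟩ <;> omega

/-- Soundness of `rmul`. -/
theorem dr_rmul {a : ℕ} {b : Fin 7 → ℕ} (ha : okRow a = true) (hb : ∀ k, okRow (b k) = true) :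
    dr (rmul a (b 0) (b 1) (b 2) (b 3) (b 4) (b 5) (b 6)) =
      fun c => ∑ k : Fin 7, dr a k * dr (b k) c := by
  obtain ⟨-, ha15⟩ := okRow_spec ha
  have hb' := fun k => okRow_spec (hb k)
  -- digits of the product
  have key : rmul a (b 0) (b 1) (b 2) (b 3) (b 4) (b 5) (b 6) =
      pk (∑ k : Fin 7, dg a k * dg (b k) 0) (∑ k : Fin 7, dg a k * dg (b k) 1)
        (∑ k : Fin 7, dg a k * dg (b k) 2) (∑ k : Fin 7, dg a k * dg (b k) 3)
        (∑ k : Fin 7, dg a k * dg (b k) 4) (∑ k : Fin 7, dg a k * dg (b k) 5)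
        (∑ k : Fin 7, dg a k * dg (b k) 6) := by
    have h6 : a / 4096 ^ 6 = dg a 6 := by
      have h := ha
      simp only [okRow, Bool.and_eq_true, Nat.ble_eq] at h
      unfold dg
      norm_num at *
      omega
    have e : ∀ k : Fin 7, b k = pk (dg (b k) 0) (dg (b k) 1) (dg (b k) 2) (dg (b k) 3)
        (dg (b k) 4) (dg (b k) 5) (dg (b k) 6) := fun k => (hb' k).1
    have hr : rmul a (b 0) (b 1) (b 2) (b 3) (b 4) (b 5) (b 6) =
        ∑ k : Fin 7, dg a k * b k := by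
      simp only [Fin.sum_univ_seven]
      unfold rmul
      rw [h6]
      unfold dg
      norm_num
    rw [hr]
    conv_lhs =>
      enter [2, k]
      rw [e k]
    unfold pk
    simp only [Finset.mul_sum, ← Finset.sum_add_distrib]
    apply Finset.sum_congr rfl
    intro k _
    ring
  have hlt : ∀ j : Fin 7, ∑ k : Fin 7, dg a k * dg (b k) j < 4096 := by
    intro j
    have : ∑ k : Fin 7, dg a k * dg (b k) j ≤ ∑ k : Fin 7, 15 * 15 :=
      Finset.sum_le_sum fun k _ => Nat.mul_le_mul (ha15 k) ((hb' k).2 j)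
    simp at this
    omega
  obtain ⟨e0, e1, e2, e3, e4, e5, e6⟩ := dg_pk (hlt 0) (hlt 1) (hlt 2) (hlt 3) (hlt 4) (hlt 5)
    (hlt 6)
  apply dr_eq
  · rw [key]
    erw [e0]
    push_cast
    rfl
  · rw [key]
    erw [e1]
    push_cast
    rfl
  · rw [key]
    erw [e2]
    push_cast
    rfl
  · rw [key]
    erw [e3]
    push_cast
    rfl
  · rw [key]
    erw [e4]
    push_cast
    rfl
  · rw [key]
    erw [e5]
    push_cast
    rfl
  · rw [key]
    erw [e6]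
    push_cast
    rfl

/-- Adding packed rows. -/
theorem dr_add {u v : ℕ} (hu : ∀ j : Fin 7, dg u j < 2048) (hv : ∀ j : Fin 7, dg v j < 2048)
    (hu' : u < 4096 ^ 7) : dr (u + v) = dr u + dr v := by
  have key : ∀ j : Fin 7, dg (u + v) j = dg u j + dg v j := by
    have h0 := hu 0
    have h1 := hu 1
    have h2 := hu 2
    have h3 := hu 3
    have h4 := hu 4
    have h5 := hu 5
    have h6 := hu 6
    have g0 := hv 0
    have g1 := hv 1
    have g2 := hv 2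
    have g3 := hv 3
    have g4 := hv 4
    have g5 := hv 5
    have g6 := hv 6
    unfold dg at *
    intro j
    fin_cases j <;> norm_num at * <;> omega
  funext c
  simp only [dr, Pi.add_apply]
  rw [key c]
  push_cast
  rfl

/-- Row `r` of a packed matrix. -/
def rw' (n r : ℕ) : ℕ := n / 2 ^ (84 * r) % 2 ^ 84

/-- The matrix encoded by a packed matrix. -/
def dm (n : ℕ) : M7 := fun r => dr (rw' n r)

def okMat (n : ℕ) : Bool :=
  okRow (rw' n 0) && okRow (rw' n 1) && okRow (rw' n 2) && okRow (rw' n 3) && okRow (rw' n 4) &&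
  okRow (rw' n 5) && okRow (rw' n 6)

theorem okMat_spec {n : ℕ} (h : okMat n = true) (k : Fin 7) : okRow (rw' n k) = true := by
  simp only [okMat, Bool.and_eq_true] at h
  obtain ⟨⟨⟨⟨⟨⟨h0, h1⟩, h2⟩, h3⟩, h4⟩, h5⟩, h6⟩ := h
  fin_cases k
  · exact h0
  · exact h1
  · exact h2
  · exact h3
  · exact h4
  · exact h5
  · exact h6

/-- Evaluate the natural number first, then apply the function. -/
def force {α : Type} (n : ℕ) (f : ℕ → α) : α := Nat.rec (f 0) (fun m _ => f (m + 1)) n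

theorem force_eq {α : Type} (n : ℕ) (f : ℕ → α) : force n f = f n := by
  cases n <;> rfl

def allB (p : ℕ → Bool) : ℕ → Bool
  | 0 => true
  | n + 1 => p n && allB p n

theorem allB_spec {p : ℕ → Bool} {n : ℕ} (h : allB p n = true) : ∀ i < n, p i = true := by
  induction n with
  | zero => intro i hi; omega
  | succ n ih =>
    intro i hi
    simp only [allB, Bool.and_eq_true] at h
    rcases Nat.lt_succ_iff_lt_or_eq.mp hi with h1 | h1
    · exact ih h.2 i h1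
    · rw [h1]; exact h.1

/-- Check `A * B = C` for packed matrices. -/
def chkMul (A B C : ℕ) : Bool :=
  okMat A && okMat B &&
  allB (fun r => Nat.beq (red (rmul (rw' A r) (rw' B 0) (rw' B 1) (rw' B 2) (rw' B 3) (rw' B 4)
    (rw' B 5) (rw' B 6))) (rw' C r)) 7

theorem chkMul_spec {A B C : ℕ} (h : chkMul A B C = true) : dm A * dm B = dm C := by
  simp only [chkMul, Bool.and_eq_true] at h
  obtain ⟨⟨hA, hB⟩, hC⟩ := h
  ext r c
  have h1 := allB_spec hC r r.2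
  rw [Nat.beq_eq] at h1
  have h2 := dr_rmul (a := rw' A r) (b := fun k => rw' B k) (okMat_spec hA r) (okMat_spec hB)
  have h3 : dm C r c = dr (rw' C r) c := rfl
  rw [h3, ← h1, dr_red]
  have h4 := congrFun h2 c
  rw [Matrix.mul_apply]
  exact h4.symm

end Cfsg.Agent.J1
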