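import Cfsg.Agent.J1.Theory
import Cfsg.Agent.H60.Schur

/-! The Schur multiplier of `J1` is trivial. -/

set_option autoImplicit false

namespace Cfsg.Agent.J1

open Subgroup Cfsg.Agent.H60

/-- The involutions of `S`. -/
noncomputable def sI (n : ℕ) : J := xJ ^ n * dJ * (xJ ^ n)⁻¹

theorem sI_eq {b : Fin 7} {e : Fin 8} (h : compP (0, b, 0) (1, 0, 0) = compP (e, 0, 0) (0, b, 0)) :
    sI b = hJ (e, 0, 0) := by
  unfold sI
  rw [mul_inv_eq_iff_eq_mul, ← hJ_b]
  unfold dJ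
  rw [hJ_mul, hJ_mul, h]

theorem sI_rel0 : sI 0 * sI 1 = sI 3 := by
  have h0 : sI 0 = hJ (1, 0, 0) := sI_eq (b := 0) (by decide +kernel)
  have h1 : sI 1 = hJ (7, 0, 0) := sI_eq (b := 1) (by decide +kernel)
  have h3 : sI 3 = hJ (5, 0, 0) := sI_eq (b := 3) (by decide +kernel)
  rw [h0, h1, h3, hJ_mul]
  congr 1

theorem sI_add (m n : ℕ) : sI (m + n) = xJ ^ m * sI n * (xJ ^ m)⁻¹ := by
  unfold sI
  rw [pow_add]
  group

theorem sI_rel (n : ℕ) : sI n * sI (n + 1) = sI (n + 3) := by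
  have h0 := sI_add n 0
  rw [add_zero] at h0
  rw [h0, sI_add n 1, sI_add n 3, ← sI_rel0]
  group

theorem sI_mod (n : ℕ) : sI (n + 7) = sI n := by
  unfold sI
  rw [pow_add, xJ_pow, mul_one]

theorem sI_mem (n : ℕ) : sI n ∈ SJ :=
  HJ_conj_SJ (HJ.pow_mem xJ_mem_HJ n) dJ_mem_SJ

theorem SJ_le_closure : SJ ≤ Subgroup.closure ({sI 0, sI 1, sI 2} : Set J) := by
  have h0 : sI 0 ∈ Subgroup.closure ({sI 0, sI 1, sI 2} : Set J) :=
    Subgroup.subset_closure (by simp)
  have h1 : sI 1 ∈ Subgroup.closure ({sI 0, sI 1, sI 2} : Set J) :=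
    Subgroup.subset_closure (by simp)
  have h2 : sI 2 ∈ Subgroup.closure ({sI 0, sI 1, sI 2} : Set J) :=
    Subgroup.subset_closure (by simp)
  have key : ∀ n, sI n ∈ Subgroup.closure ({sI 0, sI 1, sI 2} : Set J) ∧
      sI (n + 1) ∈ Subgroup.closure ({sI 0, sI 1, sI 2} : Set J) ∧
      sI (n + 2) ∈ Subgroup.closure ({sI 0, sI 1, sI 2} : Set J) := by
    intro n
    induction n with
    | zero => exact ⟨h0, h1, h2⟩
    | succ n ih =>
      obtain ⟨a, b, c⟩ := ih
      refine ⟨b, c, ?_⟩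
      rw [show n + 1 + 2 = n + 3 by ring, ← sI_rel]
      exact Subgroup.mul_mem _ a b
  intro s hs
  by_cases h : s = 1
  · rw [h]; exact one_mem _
  · obtain ⟨b, rfl⟩ := exists_conj_dJ hs h
    exact (key b).1

section lift

variable {Γ : Type*} [Group Γ] (σ : Γ →* J) (hc : σ.ker ≤ center Γ)

include hc in
theorem comm_of_sigma_eq {u u' : Γ} (h : σ u = σ u') : ∃ a : Γ, a ∈ center Γ ∧ u = a * u' := by
  refine ⟨u * u'⁻¹, ?_, by group⟩
  apply hc
  rw [MonoidHom.mem_ker, map_mul, map_inv, h, mul_inv_cancel]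

end lift

/-- The commutator. -/
def cmt {Γ : Type*} [Group Γ] (u v : Γ) : Γ := u * v * u⁻¹ * v⁻¹

theorem lifts_commute {Γ : Type*} [Group Γ] (σ : Γ →* J) (hs : Function.Surjective σ)
    (hc : σ.ker ≤ center Γ) {u v : Γ} (hu : σ u ∈ SJ) (hv : σ v ∈ SJ) : u * v = v * u := by
  obtain ⟨X, hX⟩ := hs xJ
  obtain ⟨w, hw⟩ := hs dJ
  obtain ⟨U, hU⟩ : ∃ U : ℕ → Γ, ∀ n, U n = X ^ n * w * (X ^ n)⁻¹ := ⟨_, fun _ => rfl⟩
  have hUs : ∀ n, σ (U n) = sI n := by
    intro n
    rw [hU]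
    simp only [map_mul, map_inv, map_pow, hX, hw]
    rfl
  have hz : ∀ a : Γ, σ a = 1 → ∀ g : Γ, g * a = a * g := fun a ha =>
    mem_center_iff.mp (hc ha)
  -- commutators are central
  have hcen : ∀ m n, ∀ g : Γ, g * cmt (U m) (U n) = cmt (U m) (U n) * g := by
    intro m n
    apply hz
    unfold cmt
    rw [map_mul, map_mul, map_mul, map_inv, map_inv, hUs, hUs, SJ_comm (sI_mem m) (sI_mem n)]
    group
  have hUadd : ∀ n, U (n + 1) = X * U n * X⁻¹ := by
    intro n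
    rw [hU, hU]
    simp only [pow_succ', mul_inv_rev, mul_assoc]
  -- invariance
  have hinv : ∀ m n, cmt (U (m + 1)) (U (n + 1)) = cmt (U m) (U n) := by
    intro m n
    have h1 : cmt (U (m + 1)) (U (n + 1)) = X * cmt (U m) (U n) * X⁻¹ := by
      rw [hUadd, hUadd]
      unfold cmt
      group
    rw [h1, hcen m n X, mul_inv_cancel_right]
  -- relation with central factors
  have hrel : ∀ n, ∃ a : Γ, (∀ g : Γ, g * a = a * g) ∧ U (n + 3) = a * (U n * U (n + 1)) := by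
    intro n
    refine ⟨U (n + 3) * (U n * U (n + 1))⁻¹, ?_, by group⟩
    apply hz
    rw [map_mul, map_inv, map_mul, hUs, hUs, hUs, sI_rel, mul_inv_cancel]
  have hswap : ∀ m n, cmt (U m) (U n) = (cmt (U n) (U m))⁻¹ := by
    intro m n
    unfold cmt
    group
  -- bilinearity on the right
  have hbil : ∀ m k l, cmt (U m) (U k * U l) = cmt (U m) (U k) * cmt (U m) (U l) := by
    intro m k l
    have h1 : cmt (U m) (U k * U l) = cmt (U m) (U k) * (U k * cmt (U m) (U l) * (U k)⁻¹) := by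
      unfold cmt
      group
    rw [h1, hcen m l (U k), mul_inv_cancel_right]
  have hcent_right : ∀ (a g h : Γ), (∀ g : Γ, g * a = a * g) → cmt g (a * h) = cmt g h := by
    intro a g h ha
    unfold cmt
    have h1 : g * (a * h) * g⁻¹ * (a * h)⁻¹ = a * (g * h * g⁻¹ * h⁻¹) * a⁻¹ := by
      rw [← mul_assoc, ha g]
      group
    rw [h1, ← ha, mul_inv_cancel_right]
  have hself : ∀ n, cmt (U n) (U n) = 1 := by
    intro n
    unfold cmt
    group
  have hmk : ∀ m n, cmt (U m) (U (n + 3)) = cmt (U m) (U n) * cmt (U m) (U (n + 1)) := by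
    intro m n
    obtain ⟨a, ha, h1⟩ := hrel n
    rw [h1, hcent_right a _ _ ha, hbil]
  set c := cmt (U 0) (U 1) with hcdef
  have h03 : cmt (U 0) (U 3) = c := by
    rw [hmk 0 0, hself, one_mul]
  have h13 : cmt (U 1) (U 3) = c⁻¹ := by
    rw [hmk 1 0, hself, mul_one, hswap]
  have h02 : cmt (U 0) (U 2) = c⁻¹ := by
    rw [← hinv 0 2]
    exact h13
  have h04 : cmt (U 0) (U 4) = 1 := by
    rw [hmk 0 1, ← hcdef, h02, mul_inv_cancel]
  -- U 7 is U 0 up to a central element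
  have h7 : ∃ a : Γ, (∀ g : Γ, g * a = a * g) ∧ U 7 = a * U 0 := by
    refine ⟨U 7 * (U 0)⁻¹, ?_, by group⟩
    apply hz
    have h70 : sI 7 = sI 0 := sI_mod 0
    rw [map_mul, map_inv, hUs, hUs, h70, mul_inv_cancel]
  have h47 : cmt (U 4) (U 7) = cmt (U 0) (U 3) := by
    rw [hinv 3 6, hinv 2 5, hinv 1 4, hinv 0 3]
  have h40 : cmt (U 4) (U 0) = c := by
    obtain ⟨a, ha, h8⟩ := h7
    rw [h8, hcent_right a _ _ ha] at h47
    rw [h47, h03]
  have hc1 : c = 1 := by
    have := hswap 4 0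
    rw [h40, h04, inv_one] at this
    exact this
  have hcm : ∀ m n, cmt (U m) (U n) = 1 → U m * U n = U n * U m := by
    intro m n h
    unfold cmt at h
    rw [mul_inv_eq_one, mul_inv_eq_iff_eq_mul] at h
    exact h
  have c01 : U 0 * U 1 = U 1 * U 0 := hcm 0 1 hc1
  have c02 : U 0 * U 2 = U 2 * U 0 := hcm 0 2 (by rw [h02, hc1, inv_one])
  have c12 : U 1 * U 2 = U 2 * U 1 := hcm 1 2 (by rw [hinv 0 1]; exact hc1)
  -- the three generators commute with every lift
  have hgen : ∀ i : ℕ, i < 3 → ∀ g : Γ, σ g ∈ SJ → g * U i = U i * g := by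
    intro i hi g hg
    apply commute_lift σ hc (U i) ({sI 0, sI 1, sI 2} : Set J) _ (SJ_le_closure hg)
    intro s hs
    simp only [Set.mem_insert_iff, Set.mem_singleton_iff] at hs
    rcases hs with rfl | rfl | rfl
    · refine ⟨U 0, hUs 0, ?_⟩
      interval_cases i
      · rfl
      · exact c01
      · exact c02
    · refine ⟨U 1, hUs 1, ?_⟩
      interval_cases i
      · exact c01.symm
      · rfl
      · exact c12
    · refine ⟨U 2, hUs 2, ?_⟩
      interval_cases i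
      · exact c02.symm
      · exact c12.symm
      · rfl
  apply commute_lift σ hc v ({sI 0, sI 1, sI 2} : Set J) _ (SJ_le_closure hu)
  intro s hs
  simp only [Set.mem_insert_iff, Set.mem_singleton_iff] at hs
  rcases hs with rfl | rfl | rfl
  · exact ⟨U 0, hUs 0, (hgen 0 (by norm_num) v hv).symm⟩
  · exact ⟨U 1, hUs 1, (hgen 1 (by norm_num) v hv).symm⟩
  · exact ⟨U 2, hUs 2, (hgen 2 (by norm_num) v hv).symm⟩

theorem sqfree_aux {p : ℕ} (hp : p.Prime) (h2 : p ≠ 2) : ¬ p ^ 2 ∣ 175560 := by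
  intro h
  have h1 : (175560 : ℕ) = 8 * 21945 := by norm_num
  have hc : Nat.Coprime (p ^ 2) 8 := by
    have : Nat.Coprime p 2 := (Nat.coprime_primes hp Nat.prime_two).mpr h2
    rw [show (8 : ℕ) = 2 ^ 3 by norm_num]
    exact (this.pow_left 2).pow_right 3
  rw [h1] at h
  have h3 := hc.dvd_of_dvd_mul_left h
  have hpd : p ∣ 3 * 5 * 7 * 11 * 19 := (Dvd.intro_left _ (pow_succ p 1).symm).trans h3
  have hq : ∀ q : ℕ, q.Prime → ¬ q ^ 2 ∣ 21945 → p ∣ q → False := by
    intro q hq hn hpq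
    have := (Nat.prime_dvd_prime_iff_eq hp hq).mp hpq
    subst this
    exact hn h3
  rcases (Nat.Prime.dvd_mul hp).mp hpd with h4 | h4
  · rcases (Nat.Prime.dvd_mul hp).mp h4 with h4 | h4
    · rcases (Nat.Prime.dvd_mul hp).mp h4 with h4 | h4
      · rcases (Nat.Prime.dvd_mul hp).mp h4 with h4 | h4
        · exact hq 3 (by norm_num) (by norm_num) h4
        · exact hq 5 (by norm_num) (by norm_num) h4
      · exact hq 7 (by norm_num) (by norm_num) h4
    · exact hq 11 (by norm_num) (by norm_num) h4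
  · exact hq 19 (by norm_num) (by norm_num) h4

/-- The Schur multiplier of `J1` is trivial. -/
theorem schur_J : Cfsg.HasCyclicSchurMultiplier J 1 := by
  apply schur_trivial
  intro p hp Γ _ _ σ hs hc P a ha b hb
  have : Fact p.Prime := ⟨hp⟩
  by_cases h2 : p = 2
  · subst h2
    have h1 : IsPGroup 2 ((P : Subgroup Γ).map σ) := P.2.map σ
    obtain ⟨Q, hQ⟩ := h1.exists_le_sylow
    obtain ⟨g, hg⟩ := MulAction.exists_smul_eq J Q sylJ
    obtain ⟨g', rfl⟩ := hs g
    have key : ∀ c ∈ P, σ (g' * c * g'⁻¹) ∈ SJ := by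
      intro c hcP
      rw [← sylJ_coe, ← hg, Sylow.coe_subgroup_smul, Subgroup.mem_pointwise_smul_iff_inv_smul_mem,
        ← map_inv, MulAut.smul_def, MulAut.conj_apply]
      have : (σ g')⁻¹ * σ (g' * c * g'⁻¹) * ((σ g')⁻¹)⁻¹ = σ c := by
        rw [map_mul, map_mul, map_inv]
        group
      rw [this]
      exact hQ ⟨c, hcP, rfl⟩
    have h3 := lifts_commute σ hs hc (key a ha) (key b hb)
    have h4 : g' * (a * b) * g'⁻¹ = g' * (b * a) * g'⁻¹ := by
      have e1 : g' * (a * b) * g'⁻¹ = g' * a * g'⁻¹ * (g' * b * g'⁻¹) := by group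
      have e2 : g' * (b * a) * g'⁻¹ = g' * b * g'⁻¹ * (g' * a * g'⁻¹) := by group
      rw [e1, e2, h3]
    exact mul_left_cancel (mul_right_cancel h4)
  · exact sylow_comm_of_not_sq_dvd (by rw [card_J]; exact sqfree_aux hp h2) σ hc P P.2 a ha b hb

end Cfsg.Agent.J1
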