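import Cfsg.Agent.J1.Local2
import Cfsg.Agent.H60.Gen2

/-! Centralisers of elements of prime order in `J1`, simplicity. -/

set_option autoImplicit false

namespace Cfsg.Agent.J1

open Subgroup Cfsg.Agent.H60

/-- The Sylow `2`-subgroup. -/
noncomputable def sylJ : Sylow 2 J :=
  haveI : Fact (Nat.Prime 2) := ⟨Nat.prime_two⟩
  Sylow.ofCard SJ (by
    rw [card_SJ, card_J]
    have : (175560 : ℕ).factorization 2 = 3 := by
      have h1 : (175560 : ℕ) = 2 ^ 3 * 21945 := by norm_num
      rw [h1, Nat.factorization_mul (by norm_num) (by norm_num), Nat.Prime.factorization_pow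
        Nat.prime_two]
      have h2 : (21945 : ℕ).factorization 2 = 0 := Nat.factorization_eq_zero_of_not_dvd (by norm_num)
      simp [h2]
    rw [this]
    norm_num)

theorem sylJ_coe : (sylJ : Subgroup J) = SJ := rfl

/-- All involutions are conjugate to `D_0`. -/
theorem exists_conj_inv {t : J} (ht : orderOf t = 2) : ∃ g : J, g * t * g⁻¹ = dJ := by
  have : Fact (Nat.Prime 2) := ⟨Nat.prime_two⟩
  have h1 : IsPGroup 2 (zpowers t) := by
    apply IsPGroup.of_card (n := 1)
    rw [Nat.card_zpowers, ht, pow_one]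
  obtain ⟨Q, hQ⟩ := h1.exists_le_sylow
  obtain ⟨g, hg⟩ := MulAction.exists_smul_eq J Q sylJ
  have h2 : g * t * g⁻¹ ∈ SJ := by
    rw [← sylJ_coe, ← hg, Sylow.coe_subgroup_smul, Subgroup.mem_pointwise_smul_iff_inv_smul_mem,
      ← map_inv, MulAut.smul_def, MulAut.conj_apply]
    have : g⁻¹ * (g * t * g⁻¹) * g⁻¹⁻¹ = t := by group
    rw [this]
    exact hQ (mem_zpowers t)
  have h3 : g * t * g⁻¹ ≠ 1 := by
    intro h
    have : t = 1 := by
      have := congrArg (fun z => g⁻¹ * z * g) h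
      simpa [mul_assoc] using this
    rw [this, orderOf_one] at ht
    exact absurd ht (by norm_num)
  obtain ⟨b, hb⟩ := exists_conj_dJ h2 h3
  refine ⟨(xJ ^ (b : ℕ))⁻¹ * g, ?_⟩
  have h4 : (xJ ^ (b : ℕ))⁻¹ * g * t * ((xJ ^ (b : ℕ))⁻¹ * g)⁻¹ =
      (xJ ^ (b : ℕ))⁻¹ * (g * t * g⁻¹) * xJ ^ (b : ℕ) := by group
  rw [h4, ← hb]
  group

theorem card_cent2 {t : J} (ht : orderOf t = 2) :
    Nat.card (centralizer ({t} : Set J)) = 120 := by
  obtain ⟨g, hg⟩ := exists_conj_inv ht
  rw [← card_centralizer_conj g t, hg, card_centralizer_dJ]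

theorem card_cent7 {a : J} (ha : orderOf a = 7) :
    Nat.card (centralizer ({a} : Set J)) = 7 := by
  have : Fact (Nat.Prime 7) := ⟨by norm_num⟩
  rw [card_centralizer_eq ha orderOf_xJ (by rw [card_J]; norm_num)]
  have : centralizer ({xJ} : Set J) = zpowers xJ := by
    apply le_antisymm
    · intro g hg
      rw [mem_centralizer_singleton_iff] at hg
      exact centralizer_x hg
    · rw [zpowers_le]
      exact mem_centralizer_self _
  rw [this, Nat.card_zpowers, orderOf_xJ]

theorem not_dvd2 {z : J} (h : ¬ orderOf z ∣ 120) : ¬ 2 ∣ Nat.card (centralizer ({z} : Set J)) := by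
  intro h2
  obtain ⟨a, ha, ha2⟩ := exists_of_prime_dvd_centralizer Nat.prime_two h2
  rw [card_cent2 ha] at ha2
  exact h ha2

theorem not_dvd7 {z : J} (h : ¬ orderOf z ∣ 7) : ¬ 7 ∣ Nat.card (centralizer ({z} : Set J)) := by
  intro h2
  obtain ⟨a, ha, ha2⟩ := exists_of_prime_dvd_centralizer (by norm_num) h2
  rw [card_cent7 ha] at ha2
  exact h ha2

def z19J : J := ⟨z19, z19_mem⟩
def z11J : J := ⟨z11, z11_mem⟩
def z15J : J := ⟨z15, z15_mem⟩

theorem orderOf_z19J : orderOf z19J = 19 := (Subgroup.orderOf_mk _ _).trans order19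
theorem orderOf_z11J : orderOf z11J = 11 := (Subgroup.orderOf_mk _ _).trans order11
theorem orderOf_z15J : orderOf z15J = 15 := (Subgroup.orderOf_mk _ _).trans order15
theorem orderOf_yJ : orderOf yJ = 5 := (Subgroup.orderOf_mk _ _).trans order5

theorem w19_conj : ∃ w : J, w * z19J * w⁻¹ = z19J ^ 8 := by
  refine ⟨hJ (0, 4, 1) * tJ 415, ?_⟩
  rw [mul_inv_eq_iff_eq_mul]
  apply J_ext
  have h1 : ((z19J : GL7) : M7) = dm Z19_1 := is19_1
  have h2 : (((z19J ^ 8 : J) : GL7) : M7) = dm Z19_8 := is19_8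
  rw [Subgroup.coe_mul, Units.val_mul, Subgroup.coe_mul, Units.val_mul, Subgroup.coe_mul,
    Units.val_mul, Subgroup.coe_mul, Units.val_mul, hJ_coe, tJ_coe, h1, h2]
  exact w19_rel

theorem w11_conj : ∃ w : J, w * z11J * w⁻¹ = z11J ^ 2 := by
  refine ⟨hJ (4, 0, 2) * tJ 144, ?_⟩
  rw [mul_inv_eq_iff_eq_mul]
  apply J_ext
  have h1 : ((z11J : GL7) : M7) = dm Z11_1 := is11_1
  have h2 : (((z11J ^ 2 : J) : GL7) : M7) = dm Z11_2 := is11_2
  rw [Subgroup.coe_mul, Units.val_mul, Subgroup.coe_mul, Units.val_mul, Subgroup.coe_mul,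
    Units.val_mul, Subgroup.coe_mul, Units.val_mul, hJ_coe, tJ_coe, h1, h2]
  exact w11_rel

theorem ord_zmod19 : orderOf ((8 : ℕ) : ZMod 19) = 6 := by
  rw [orderOf_eq_iff (by norm_num)]
  refine ⟨by decide, ?_⟩
  intro m hm hm0
  interval_cases m <;> decide

theorem ord_zmod11 : orderOf ((2 : ℕ) : ZMod 11) = 10 := by
  rw [orderOf_eq_iff (by norm_num)]
  refine ⟨by decide, ?_⟩
  intro m hm hm0
  interval_cases m <;> decide

theorem ord_zmod7 : orderOf ((4 : ℕ) : ZMod 7) = 3 := by
  rw [orderOf_eq_iff (by norm_num)]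
  refine ⟨by decide, ?_⟩
  intro m hm hm0
  interval_cases m <;> decide

theorem dec19_aux : allB (fun i => !(Nat.beq (i * (1540 / i)) 1540) || Nat.beq (i % 2) 0 ||
    Nat.beq (i % 7) 0 || !(Nat.beq (1540 / i % 19) 1) || Nat.beq i 1) 1541 = true := by
  decide +kernel

theorem dec11_aux : allB (fun i => !(Nat.beq (i * (1596 / i)) 1596) || Nat.beq (i % 2) 0 ||
    Nat.beq (i % 7) 0 || Nat.beq (i % 19) 0 || !(Nat.beq (1596 / i % 11) 1) || Nat.beq i 1) 1597
    = true := by
  decide +kernel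

theorem dec19 {c n : ℕ} (hcn : c * n = 29260) (h19 : 19 ∣ c) (h2 : ¬ 2 ∣ c) (h7 : ¬ 7 ∣ c)
    (hn : n % 19 = 1) : c = 19 := by
  obtain ⟨d, rfl⟩ := h19
  have h1 : d * n = 1540 := by nlinarith
  have hd : 0 < d := by
    rcases Nat.eq_zero_or_pos d with h | h
    · subst h; simp at h1
    · exact h
  have hn0 : 0 < n := by omega
  have hd2 : d < 1541 := by nlinarith
  have hdiv : 1540 / d = n := by rw [← h1, Nat.mul_div_cancel_left _ hd]
  have := allB_spec dec19_aux d hd2
  rw [hdiv, h1, hn] at this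
  have e2 : Nat.beq (d % 2) 0 = false := by
    cases h : Nat.beq (d % 2) 0
    · rfl
    · rw [Nat.beq_eq] at h; omega
  have e7 : Nat.beq (d % 7) 0 = false := by
    cases h : Nat.beq (d % 7) 0
    · rfl
    · rw [Nat.beq_eq] at h; omega
  rw [e2, e7] at this
  simp only [Nat.beq_refl, Bool.not_true, Bool.false_or, Nat.beq_eq] at this
  rw [this]

theorem dec11 {c n : ℕ} (hcn : c * n = 17556) (h11 : 11 ∣ c) (h2 : ¬ 2 ∣ c) (h7 : ¬ 7 ∣ c)
    (h19 : ¬ 19 ∣ c) (hn : n % 11 = 1) : c = 11 := by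
  obtain ⟨d, rfl⟩ := h11
  have h1 : d * n = 1596 := by nlinarith
  have hd : 0 < d := by
    rcases Nat.eq_zero_or_pos d with h | h
    · subst h; simp at h1
    · exact h
  have hn0 : 0 < n := by omega
  have hd2 : d < 1597 := by nlinarith
  have hdiv : 1596 / d = n := by rw [← h1, Nat.mul_div_cancel_left _ hd]
  have := allB_spec dec11_aux d hd2
  rw [hdiv, h1, hn] at this
  have e2 : Nat.beq (d % 2) 0 = false := by
    cases h : Nat.beq (d % 2) 0
    · rfl
    · rw [Nat.beq_eq] at h; omega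
  have e7 : Nat.beq (d % 7) 0 = false := by
    cases h : Nat.beq (d % 7) 0
    · rfl
    · rw [Nat.beq_eq] at h; omega
  have e19 : Nat.beq (d % 19) 0 = false := by
    cases h : Nat.beq (d % 19) 0
    · rfl
    · rw [Nat.beq_eq] at h; omega
  rw [e2, e7, e19] at this
  simp only [Nat.beq_refl, Bool.not_true, Bool.false_or, Nat.beq_eq] at this
  rw [this]

theorem card_z19 : Nat.card (centralizer ({z19J} : Set J)) = 19 ∧
    Nat.card (normalizer (zpowers z19J : Set J)) = 19 * 6 := by
  have : Fact (Nat.Prime 19) := ⟨by norm_num⟩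
  set c := Nat.card (centralizer ({z19J} : Set J)) with hc
  have h1 : 19 ∣ c := by
    have := orderOf_dvd_centralizer_of_commute (rfl : z19J * z19J = z19J * z19J)
    rwa [orderOf_z19J] at this
  have h2 : ¬ 2 ∣ c := not_dvd2 (by rw [orderOf_z19J]; norm_num)
  have h7 : ¬ 7 ∣ c := not_dvd7 (by rw [orderOf_z19J]; norm_num)
  have hr1 : ratio z19J ∣ 18 := ratio_dvd orderOf_z19J
  have hr2 : 6 ∣ ratio z19J := by
    obtain ⟨w, hw⟩ := w19_conj
    have := dvd_ratio orderOf_z19J hw
    rwa [ord_zmod19] at this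
  have hN := card_normalizer_eq z19J
  have hr : ratio z19J = 6 := by
    have h9 : ratio z19J = 6 ∨ ratio z19J = 18 := by
      have : ratio z19J ≤ 18 := Nat.le_of_dvd (by norm_num) hr1
      obtain ⟨k, hk⟩ := hr2
      have hk2 : k ≤ 3 := by omega
      interval_cases k
      · rw [hk] at hr1; revert hr1; decide
      · left; omega
      · rw [hk] at hr1; revert hr1; decide
      · right; omega
    rcases h9 with h9 | h9
    · exact h9
    · exfalso
      have h10 : Nat.card (normalizer (zpowers z19J : Set J)) ∣ Nat.card J :=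
        Subgroup.card_subgroup_dvd_card _
      rw [hN, h9, card_J] at h10
      have h11 : 18 ∣ 175560 := dvd_trans (Dvd.intro_left _ rfl) h10
      revert h11
      norm_num
  rw [hr] at hN
  have hidx : (normalizer (zpowers z19J : Set J)).index ≡ 1 [MOD 19] :=
    index_normalizer_modEq orderOf_z19J (by rw [card_J]; norm_num)
  have hmul := Subgroup.card_mul_index (normalizer (zpowers z19J : Set J))
  rw [hN, card_J] at hmul
  have hmul2 : c * (normalizer (zpowers z19J : Set J)).index = 29260 := by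
    rw [← hc] at hmul
    nlinarith
  have hc19 : c = 19 := dec19 hmul2 h1 h2 h7 hidx
  refine ⟨hc19, ?_⟩
  rw [hN, ← hc, hc19]

theorem card_cent19 {a : J} (ha : orderOf a = 19) :
    Nat.card (centralizer ({a} : Set J)) = 19 := by
  have : Fact (Nat.Prime 19) := ⟨by norm_num⟩
  rw [card_centralizer_eq ha orderOf_z19J (by rw [card_J]; norm_num)]
  exact card_z19.1

theorem not_dvd19 {z : J} (h : ¬ orderOf z ∣ 19) :
    ¬ 19 ∣ Nat.card (centralizer ({z} : Set J)) := by
  intro h2
  obtain ⟨a, ha, ha2⟩ := exists_of_prime_dvd_centralizer (by norm_num) h2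
  rw [card_cent19 ha] at ha2
  exact h ha2

theorem card_z11 : Nat.card (centralizer ({z11J} : Set J)) = 11 ∧
    Nat.card (normalizer (zpowers z11J : Set J)) = 11 * 10 := by
  have : Fact (Nat.Prime 11) := ⟨by norm_num⟩
  set c := Nat.card (centralizer ({z11J} : Set J)) with hc
  have h1 : 11 ∣ c := by
    have := orderOf_dvd_centralizer_of_commute (rfl : z11J * z11J = z11J * z11J)
    rwa [orderOf_z11J] at this
  have h2 : ¬ 2 ∣ c := not_dvd2 (by rw [orderOf_z11J]; norm_num)
  have h7 : ¬ 7 ∣ c := not_dvd7 (by rw [orderOf_z11J]; norm_num)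
  have h19 : ¬ 19 ∣ c := not_dvd19 (by rw [orderOf_z11J]; norm_num)
  have hr1 : ratio z11J ∣ 10 := ratio_dvd orderOf_z11J
  have hr2 : 10 ∣ ratio z11J := by
    obtain ⟨w, hw⟩ := w11_conj
    have := dvd_ratio orderOf_z11J hw
    rwa [ord_zmod11] at this
  have hN := card_normalizer_eq z11J
  have hr : ratio z11J = 10 := Nat.dvd_antisymm hr1 hr2
  rw [hr] at hN
  have hidx : (normalizer (zpowers z11J : Set J)).index ≡ 1 [MOD 11] :=
    index_normalizer_modEq orderOf_z11J (by rw [card_J]; norm_num)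
  have hmul := Subgroup.card_mul_index (normalizer (zpowers z11J : Set J))
  rw [hN, card_J] at hmul
  have hmul2 : c * (normalizer (zpowers z11J : Set J)).index = 17556 := by
    rw [← hc] at hmul
    nlinarith
  have hc11 : c = 11 := dec11 hmul2 h1 h2 h7 h19 hidx
  refine ⟨hc11, ?_⟩
  rw [hN, ← hc, hc11]

theorem card_cent11 {a : J} (ha : orderOf a = 11) :
    Nat.card (centralizer ({a} : Set J)) = 11 := by
  have : Fact (Nat.Prime 11) := ⟨by norm_num⟩
  rw [card_centralizer_eq ha orderOf_z11J (by rw [card_J]; norm_num)]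
  exact card_z11.1

theorem card_norm7 : Nat.card (normalizer (zpowers xJ : Set J)) = 7 * 6 := by
  have : Fact (Nat.Prime 7) := ⟨by norm_num⟩
  have hr1 : ratio xJ ∣ 6 := ratio_dvd orderOf_xJ
  have hr2 : 3 ∣ ratio xJ := by
    have := dvd_ratio (w := mJ) orderOf_xJ (k := 4) (by
      rw [mul_inv_eq_iff_eq_mul]; exact mJ_xJ)
    rwa [ord_zmod7] at this
  have hN := card_normalizer_eq xJ
  rw [card_cent7 orderOf_xJ] at hN
  have h9 : ratio xJ = 3 ∨ ratio xJ = 6 := by
    have : ratio xJ ≤ 6 := Nat.le_of_dvd (by norm_num) hr1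
    have hpos : 0 < ratio xJ := by
      rcases Nat.eq_zero_or_pos (ratio xJ) with h | h
      · rw [h] at hr1; exact absurd hr1 (by norm_num)
      · exact h
    omega
  rcases h9 with h9 | h9
  · exfalso
    have hidx : (normalizer (zpowers xJ : Set J)).index ≡ 1 [MOD 7] :=
      index_normalizer_modEq orderOf_xJ (by rw [card_J]; norm_num)
    have hmul := Subgroup.card_mul_index (normalizer (zpowers xJ : Set J))
    rw [hN, card_J, h9] at hmul
    have : (normalizer (zpowers xJ : Set J)).index = 8360 := by omega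
    rw [this] at hidx
    exact absurd hidx (by decide)
  · rw [hN, h9]

/-! ### Simplicity -/

theorem closure_top : Subgroup.closure ({xJ, yJ} : Set J) = ⊤ := by
  have h := Subgroup.closure_closure_coe_preimage (k := ({gx, gy} : Set GL7))
  have h2 : ({xJ, yJ} : Set J) = (Subtype.val ⁻¹' ({gx, gy} : Set GL7) : Set J) := by
    ext z
    simp only [Set.mem_insert_iff, Set.mem_singleton_iff, Set.mem_preimage]
    constructor
    · rintro (h | h)
      · left; rw [h]; rfl
      · right; rw [h]; rfl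
    · rintro (h | h)
      · left; exact Subtype.ext h
      · right; exact Subtype.ext h
  rw [h2]
  exact h

theorem dec_simple {n m : ℕ} (hnm : n * m = 175560) (h19 : ¬ 19 ∣ n) (h11 : ¬ 11 ∣ n)
    (h7 : ¬ 7 ∣ n) (h19' : n % 19 = 1) (h11' : n % 11 = 1) (h7' : n % 7 = 1) : n = 1 := by
  have hc : Nat.Coprime n 1463 := by
    have h1 : Nat.Coprime n 19 := ((Nat.Prime.coprime_iff_not_dvd (by norm_num)).mpr h19).symm
    have h2 : Nat.Coprime n 11 := ((Nat.Prime.coprime_iff_not_dvd (by norm_num)).mpr h11).symm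
    have h3 : Nat.Coprime n 7 := ((Nat.Prime.coprime_iff_not_dvd (by norm_num)).mpr h7).symm
    exact (h1.mul_right h2).mul_right h3
  have hd : n ∣ 1463 * 120 := ⟨m, hnm.symm⟩
  have hd2 : n ∣ 120 := hc.dvd_of_dvd_mul_left hd
  have := Nat.le_of_dvd (by norm_num) hd2
  omega

theorem simple_J : IsSimpleGroup J := by
  have h7 : Fact (Nat.Prime 7) := ⟨by norm_num⟩
  have h11 : Fact (Nat.Prime 11) := ⟨by norm_num⟩
  have h19 : Fact (Nat.Prime 19) := ⟨by norm_num⟩
  have hnt : Nontrivial J := ⟨⟨xJ, 1, xJ_ne_one⟩⟩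
  refine { exists_pair_ne := hnt.exists_pair_ne, eq_bot_or_eq_top_of_normal := ?_ }
  intro N hN
  have hmul := Subgroup.card_mul_index N
  rw [card_J] at hmul
  have hi : ∀ q : ℕ, q.Prime → q ∣ 175560 → q ∣ Nat.card N ∨ q ∣ N.index := by
    intro q hq hd
    rw [← hmul] at hd
    exact (Nat.Prime.dvd_mul hq).mp hd
  rcases normal_alternative (N := N) orderOf_z19J (by rw [card_J]; norm_num)
    (card_cent19 orderOf_z19J) card_z19.2 with ⟨hd, hk⟩ | ⟨hd, hmod⟩
  · right
    rw [eq_top_iff, ← closure_top, Subgroup.closure_le]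
    have key : ∀ z : J, Nat.Coprime (orderOf z) 6 → z ∈ N := by
      intro z hz
      have h1 : orderOf ((z : J) : J ⧸ N) ∣ orderOf z := orderOf_map_dvd (QuotientGroup.mk' N) z
      have h2 : orderOf ((z : J) : J ⧸ N) ∣ 6 := by
        have := orderOf_dvd_natCard ((z : J) : J ⧸ N)
        exact this.trans hk
      have h3 : orderOf ((z : J) : J ⧸ N) ∣ 1 := by
        rw [← hz]
        exact Nat.dvd_gcd h1 h2
      have h4 := orderOf_eq_one_iff.mp (Nat.dvd_one.mp h3)
      exact (QuotientGroup.eq_one_iff z).mp h4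
    intro z hz
    rcases hz with rfl | hz
    · apply key; rw [orderOf_xJ]; norm_num
    · rw [Set.mem_singleton_iff] at hz
      subst hz
      apply key; rw [orderOf_yJ]; norm_num
  · left
    have h19i : 19 ∣ N.index := (hi 19 (by norm_num) (by norm_num)).resolve_left hd
    rcases normal_alternative (N := N) orderOf_z11J (by rw [card_J]; norm_num)
      (card_cent11 orderOf_z11J) card_z11.2 with ⟨_, hk⟩ | ⟨hd11, hmod11⟩
    · exact absurd (h19i.trans hk) (by norm_num)
    rcases normal_alternative (N := N) orderOf_xJ (by rw [card_J]; norm_num)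
      (card_cent7 orderOf_xJ) card_norm7 with ⟨_, hk⟩ | ⟨hd7, hmod7⟩
    · exact absurd (h19i.trans hk) (by norm_num)
    exact Subgroup.card_eq_one.mp (dec_simple hmul hd hd11 hd7 hmod hmod11 hmod7)

end Cfsg.Agent.J1
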